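import Mathlib.AlgebraicGeometry.FunctionField
import Mathlib.AlgebraicGeometry.Morphisms.Finite
import Mathlib.AlgebraicGeometry.Morphisms.Integral
import Mathlib.RingTheory.IntegralClosure.IsIntegralClosure.Basic

/-!
# The stalk map at the generic point of an integral or finite dominant morphism
-/

set_option autoImplicit false

universe u

open CategoryTheory AlgebraicGeometry

namespace K33.GenStalk

section Alg

variable {k K A B : Type*} [CommRing k] [CommRing K] [CommRing A] [CommRing B]
  (hk : IsField k) (hK : IsField K) (φ : k →+* K) (g : A →+* B) (a : A →+* k) (b : B →+* K)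
  (h : φ.comp a = b.comp g) (hs : ∀ z : K, ∃ x y : B, b y ≠ 0 ∧ b y * z = b x)

include h in
theorem isIntegralElem (hg : g.IsIntegral) (x : B) : φ.IsIntegralElem (b x) := by
  obtain ⟨P, hP, hPx⟩ := hg x
  refine ⟨P.map a, hP.map a, ?_⟩
  rw [Polynomial.eval₂_map, h, ← Polynomial.hom_eval₂, hPx, map_zero]

include hk hK h hs in
theorem isIntegral (hg : g.IsIntegral) : φ.IsIntegral := by
  let _ := hk.toField
  let _ := hK.toField
  let _ : Algebra k K := φ.toAlgebra
  intro z
  obtain ⟨x, y, hy, hz⟩ := hs z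
  have h1 : IsIntegral k (b x) := isIntegralElem φ g a b h hg x
  have h2 : IsIntegral k (b y) := isIntegralElem φ g a b h hg y
  have h3 : z = (b y)⁻¹ * b x := by
    rw [← hz, inv_mul_cancel_left₀ hy]
  have h4 : IsIntegral k ((b y)⁻¹ * b x) := h2.inv.mul h1
  rw [h3]
  exact h4

include hk hK h hs in
theorem finite (hg : g.Finite) : φ.Finite := by
  let _ := hk.toField
  let _ := hK.toField
  let _ : Algebra k K := φ.toAlgebra
  let _ : Algebra A B := g.toAlgebra
  have hfin : Module.Finite A B := hg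
  have hint : Algebra.IsIntegral k K := ⟨isIntegral hk hK φ g a b h hs (RingHom.IsIntegral.of_finite hg)⟩
  obtain ⟨s, hs'⟩ := hfin.fg_top
  classical
  let T : Subalgebra k K := Algebra.adjoin k (b '' (s : Set B))
  have hT : T.toSubmodule.FG := fg_adjoin_of_finite (s.finite_toSet.image b)
    fun x _ => Algebra.IsIntegral.isIntegral x
  have h1 : ∀ x : B, b x ∈ T := by
    intro x
    have hx : x ∈ Submodule.span A (s : Set B) := by rw [hs']; trivial
    induction hx using Submodule.span_induction with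
    | mem x hx => exact Algebra.subset_adjoin ⟨x, hx, rfl⟩
    | zero => rw [map_zero]; exact zero_mem _
    | add x y _ _ hx hy => rw [map_add]; exact add_mem hx hy
    | smul r x _ hx =>
      rw [Algebra.smul_def, map_mul]
      have : b (algebraMap A B r) = algebraMap k K (a r) := (RingHom.congr_fun h r).symm
      rw [this]
      exact mul_mem (Subalgebra.algebraMap_mem _ _) hx
  have h2 : T = ⊤ := by
    rw [eq_top_iff]
    intro z _
    obtain ⟨x, y, hy, hz⟩ := hs z
    have h3 : z = (b y)⁻¹ * b x := by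
      rw [← hz, inv_mul_cancel_left₀ hy]
    rw [h3]
    refine mul_mem ?_ (h1 x)
    have h4 : IsAlgebraic k (b y) := (Algebra.IsIntegral.isIntegral (R := k) (b y)).isAlgebraic
    exact Subalgebra.inv_mem_of_algebraic T (x := ⟨b y, h1 y⟩) h4
  have h5 : Module.Finite k K := ⟨by rw [h2, Algebra.top_toSubmodule] at hT; exact hT⟩
  exact h5

end Alg

theorem map_genericPoint {X S : Scheme.{u}} (f : X ⟶ S) [IrreducibleSpace ↑S] [IrreducibleSpace ↑X]
    [IsDominant f] : f (genericPoint ↑X) = genericPoint ↑S := by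
  have h1 : IsGenericPoint (f (genericPoint ↑X)) (closure (f '' Set.univ)) :=
    (genericPoint_spec ↑X).image f.continuous
  have h2 : closure (f '' Set.univ) = Set.univ := by
    rw [Set.image_univ]
    exact (f.denseRange).closure_range
  rw [h2] at h1
  exact h1.eq (genericPoint_spec ↑S)

theorem isField_stalk {X : Scheme.{u}} [IsIntegral X] (x : X) (hx : x = genericPoint X) :
    IsField (X.presheaf.stalk x) := by
  subst hx
  exact Field.toIsField X.functionField

theorem exists_charts {X S : Scheme.{u}} [IsIntegral X] [IsIntegral S]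
    (f : X ⟶ S) [IsDominant f] [IsAffineHom f] :
    ∃ (V : S.Opens) (_ : IsAffineOpen V) (hx : f (genericPoint X) ∈ V),
      (∀ z : X.presheaf.stalk (genericPoint X), ∃ x y : Γ(X, f ⁻¹ᵁ V),
        X.presheaf.germ (f ⁻¹ᵁ V) (genericPoint X) hx y ≠ 0 ∧
        X.presheaf.germ (f ⁻¹ᵁ V) (genericPoint X) hx y * z =
          X.presheaf.germ (f ⁻¹ᵁ V) (genericPoint X) hx x) := by
  obtain ⟨_, ⟨V, hV, rfl⟩, hx, -⟩ := S.isBasis_affineOpens.exists_subset_of_mem_open
    (Set.mem_univ (f (genericPoint X))) isOpen_univ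
  refine ⟨V, hV, hx, fun z => ?_⟩
  have hU : IsAffineOpen (f ⁻¹ᵁ V) := hV.preimage f
  have hne : Nonempty (f ⁻¹ᵁ V) := ⟨⟨genericPoint X, hx⟩⟩
  have hloc : IsFractionRing Γ(X, f ⁻¹ᵁ V) X.functionField := functionField_isFractionRing_of_isAffineOpen X _ hU
  obtain ⟨x, y, hy, hz⟩ := IsFractionRing.div_surjective (A := Γ(X, f ⁻¹ᵁ V)) (K := X.functionField) z
  have hy0 : algebraMap Γ(X, f ⁻¹ᵁ V) X.functionField y ≠ 0 :=
    IsFractionRing.to_map_ne_zero_of_mem_nonZeroDivisors hy
  refine ⟨x, y, hy0, ?_⟩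
  change algebraMap Γ(X, f ⁻¹ᵁ V) X.functionField y * z = algebraMap Γ(X, f ⁻¹ᵁ V) X.functionField x
  rw [← hz]
  exact mul_div_cancel₀ _ hy0

theorem stalkMap_isIntegral {X S : Scheme.{u}} [IsIntegral X] [IsIntegral S]
    (f : X ⟶ S) [IsDominant f] [IsIntegralHom f] : (f.stalkMap (genericPoint X)).hom.IsIntegral := by
  obtain ⟨V, hV, hx, hs⟩ := exists_charts f
  refine isIntegral (isField_stalk _ (map_genericPoint f)) (isField_stalk _ rfl)
    (f.stalkMap (genericPoint X)).hom (f.app V).hom (S.presheaf.germ V (f (genericPoint X)) hx).hom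
    (X.presheaf.germ (f ⁻¹ᵁ V) (genericPoint X) hx).hom ?_ hs (IsIntegralHom.isIntegral_app f V hV)
  rw [← CommRingCat.hom_comp, ← CommRingCat.hom_comp, Scheme.Hom.germ_stalkMap]

theorem stalkMap_finite {X S : Scheme.{u}} [IsIntegral X] [IsIntegral S]
    (f : X ⟶ S) [IsDominant f] [IsFinite f] : (f.stalkMap (genericPoint X)).hom.Finite := by
  obtain ⟨V, hV, hx, hs⟩ := exists_charts f
  refine finite (isField_stalk _ (map_genericPoint f)) (isField_stalk _ rfl)
    (f.stalkMap (genericPoint X)).hom (f.app V).hom (S.presheaf.germ V (f (genericPoint X)) hx).hom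
    (X.presheaf.germ (f ⁻¹ᵁ V) (genericPoint X) hx).hom ?_ hs (IsFinite.finite_app f V hV)
  rw [← CommRingCat.hom_comp, ← CommRingCat.hom_comp, Scheme.Hom.germ_stalkMap]

end K33.GenStalk
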