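import Groth.Agent.Ega2.NormChart
import Groth.Agent.EGA2.K33.GenStalk
import Groth.Prelude.Def_Pi1

/-!
# The normalization of an integral scheme in a field extension of its function field
-/

set_option autoImplicit false

universe u

open CategoryTheory CategoryTheory.Limits AlgebraicGeometry

namespace K33.NormField

/-- A domain embedded in a field in which it is integrally closed is an integrally closed domain. -/
theorem isIntegrallyClosed_of_injective {B K : Type*} [CommRing B] [Field K] (j : B →+* K)
    (hj : Function.Injective j) (h : ∀ x : K, j.IsIntegralElem x → x ∈ j.range) :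
    ∃ _ : IsDomain B, IsIntegrallyClosed B := by
  have hdom : IsDomain B := hj.isDomain j
  refine ⟨hdom, ?_⟩
  let _ : Algebra B K := j.toAlgebra
  have : FaithfulSMul B K := (faithfulSMul_iff_algebraMap_injective _ _).mpr hj
  let F := FractionRing B
  let l : F →+* K := IsFractionRing.lift (A := B) (K := F) (g := j) hj
  have hl : ∀ b : B, l (algebraMap B F b) = j b := fun b => IsFractionRing.lift_algebraMap hj b
  rw [isIntegrallyClosed_iff F]
  intro x hx
  have h1 : j.IsIntegralElem (l x) := by
    obtain ⟨p, hp, hpx⟩ := hx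
    refine ⟨p, hp, ?_⟩
    have h2 : j = l.comp (algebraMap B F) := RingHom.ext fun b => (hl b).symm
    rw [h2, ← Polynomial.hom_eval₂, hpx, map_zero]
  obtain ⟨b, hb⟩ := h (l x) h1
  refine ⟨b, l.injective ?_⟩
  rw [hl, hb]

theorem isIntegralElem_trans {A B C : Type*} [CommRing A] [CommRing B] [CommRing C] (f : A →+* B)
    (g : B →+* C) (hf : f.IsIntegral) {x : C} (hx : g.IsIntegralElem x) :
    (g.comp f).IsIntegralElem x := by
  let _ : Algebra A B := f.toAlgebra
  let _ : Algebra B C := g.toAlgebra
  let _ : Algebra A C := (g.comp f).toAlgebra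
  have : IsScalarTower A B C := IsScalarTower.of_algebraMap_eq fun _ => rfl
  have : Algebra.IsIntegral A B := ⟨hf⟩
  exact isIntegral_trans (R := A) (A := B) x hx

section

variable {X : Scheme.{u}} {K : Type u} [Field K] (g : Spec (CommRingCat.of K) ⟶ X)
  [QuasiCompact g] [QuasiSeparated g]

omit [QuasiCompact g] [QuasiSeparated g] in
theorem preimage_eq_top (U : X.Opens) (z : Spec (CommRingCat.of K)) (hU : g z ∈ U) : g ⁻¹ᵁ U = ⊤ := by
  have h : z = (IsLocalRing.closedPoint K : PrimeSpectrum _) := by
    let _ : Unique (PrimeSpectrum K) := PrimeSpectrum.instUnique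
    exact Subsingleton.elim (α := PrimeSpectrum K) _ _
  subst h
  exact Scheme.preimage_eq_top_of_closedPoint_mem g hU

/-- The normalization of `X` along a morphism from the spectrum of a field is normal. -/
theorem isNormalScheme : Pi1.IsNormalScheme g.normalization := by
  intro x
  obtain ⟨_, ⟨U, hU, rfl⟩, hx, -⟩ := X.isBasis_affineOpens.exists_subset_of_mem_open
    (Set.mem_univ (g.fromNormalization x)) isOpen_univ
  have hV : IsAffineOpen (g.fromNormalization ⁻¹ᵁ U) := hU.preimage g.fromNormalization
  have hne : Nonempty (g.fromNormalization ⁻¹ᵁ U) := ⟨⟨x, hx⟩⟩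
  have hgU : g ⁻¹ᵁ U = ⊤ := by
    obtain ⟨z, hz⟩ := g.toNormalization.denseRange.exists_mem_open
      (g.fromNormalization ⁻¹ᵁ U).isOpen ⟨x, hx⟩
    refine preimage_eq_top g U z ?_
    have h1 : g z = g.fromNormalization (g.toNormalization z) := by
      rw [← Scheme.Hom.comp_apply, Scheme.Hom.toNormalization_fromNormalization]
    rw [h1]
    exact hz
  let j := Groth.Agent.Ega2.NormChart.normToK g U hgU
  have hj : Function.Injective j := Groth.Agent.Ega2.NormChart.normToK_injective g U hgU hU
  obtain ⟨hdom, hic⟩ := isIntegrallyClosed_of_injective j hj (by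
    intro y hy
    rw [Groth.Agent.Ega2.NormChart.mem_range_normToK g U hgU hU]
    have h1 : (Groth.Agent.Ega2.NormChart.toK g U hgU) =
      j.comp (g.fromNormalization.app U).hom :=
        (Groth.Agent.Ega2.NormChart.normToK_comp g U hgU).symm
    have hint : (g.fromNormalization.app U).hom.IsIntegral :=
      g.fromNormalization.isIntegral_app U hU
    have hint' : (Groth.Agent.Ega2.NormChart.toK g U hgU).IsIntegralElem y := by
      rw [h1]
      exact isIntegralElem_trans _ j hint hy
    exact hint')
  let _ : Algebra Γ(g.normalization, g.fromNormalization ⁻¹ᵁ U) (g.normalization.presheaf.stalk x) :=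
    TopCat.Presheaf.algebra_section_stalk g.normalization.presheaf (U := g.fromNormalization ⁻¹ᵁ U) ⟨x, hx⟩
  have hloc : IsLocalization.AtPrime (g.normalization.presheaf.stalk x)
    (hV.primeIdealOf ⟨x, hx⟩).asIdeal := hV.isLocalization_stalk ⟨x, hx⟩
  have h0 := (hV.primeIdealOf ⟨x, hx⟩).asIdeal.primeCompl_le_nonZeroDivisors
  exact ⟨IsLocalization.isDomain_of_le_nonZeroDivisors _ h0,
    isIntegrallyClosed_of_isLocalization _ (hV.primeIdealOf ⟨x, hx⟩).asIdeal.primeCompl h0⟩

/-- Points over the generic point in an integral extension of integral schemes. -/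
theorem eq_genericPoint {N X : Scheme.{u}} [IsIntegral X] [IsIntegral N] (f : N ⟶ X) [IsIntegralHom f]
    (a : N) (ha : f a = genericPoint X) : a = genericPoint N := by
  obtain ⟨_, ⟨U, hU, rfl⟩, hx, -⟩ := X.isBasis_affineOpens.exists_subset_of_mem_open
    (Set.mem_univ (f a)) isOpen_univ
  have hV : IsAffineOpen (f ⁻¹ᵁ U) := hU.preimage f
  have hne : Nonempty (f ⁻¹ᵁ U) := ⟨⟨a, hx⟩⟩
  have hneU : Nonempty U := ⟨⟨f a, hx⟩⟩
  have hgx : genericPoint X ∈ U := ha ▸ hx
  have hgV : genericPoint N ∈ f ⁻¹ᵁ U :=
    ((genericPoint_spec N).mem_open_set_iff (f ⁻¹ᵁ U).isOpen).mpr ⟨a, trivial, hx⟩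
  have h1 := IsAffineOpen.comap_primeIdealOf_appLE (f := f) (x := a) U hU (f ⁻¹ᵁ U) hV le_rfl hx
  have h2 : hU.primeIdealOf ⟨f a, hx⟩ = genericPoint (Spec Γ(X, U)) := by
    rw [← hU.primeIdealOf_genericPoint]
    congr 1
    exact Subtype.ext ha
  have h3 : hV.primeIdealOf ⟨genericPoint N, hgV⟩ = genericPoint (Spec Γ(N, f ⁻¹ᵁ U)) :=
    hV.primeIdealOf_genericPoint
  have h4 : (hV.primeIdealOf ⟨a, hx⟩).asIdeal = ⊥ := by
    let _ : Algebra Γ(X, U) Γ(N, f ⁻¹ᵁ U) := (f.app U).hom.toAlgebra
    have : Algebra.IsIntegral Γ(X, U) Γ(N, f ⁻¹ᵁ U) := ⟨f.isIntegral_app U hU⟩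
    refine Ideal.eq_bot_of_comap_eq_bot (R := Γ(X, U)) ?_
    have h5 := congrArg PrimeSpectrum.asIdeal (h1.trans h2)
    rw [← Scheme.Hom.app_eq_appLE] at h5
    rw [genericPoint_eq_bot_of_affine] at h5
    exact h5
  have h6 : hV.primeIdealOf ⟨a, hx⟩ = hV.primeIdealOf ⟨genericPoint N, hgV⟩ := by
    rw [h3, genericPoint_eq_bot_of_affine]
    exact PrimeSpectrum.ext h4
  have h7 := congrArg hV.fromSpec h6
  rwa [hV.fromSpec_primeIdealOf, hV.fromSpec_primeIdealOf] at h7

end

section

variable {X : Scheme.{u}} [IsIntegral X] {K : Type u} [Field K] (φ : X.functionField →+* K)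

/-- The morphism from the spectrum of an extension field of the function field. -/
noncomputable abbrev mor : Spec (CommRingCat.of K) ⟶ X :=
  Spec.map (CommRingCat.ofHom φ) ≫ X.fromSpecStalk (genericPoint X)

theorem mor_closedPoint : mor φ (IsLocalRing.closedPoint K) = genericPoint X := by
  have : IsLocalHom φ := inferInstance
  have h1 : Spec.map (CommRingCat.ofHom φ) (IsLocalRing.closedPoint K) =
      IsLocalRing.closedPoint X.functionField := IsLocalRing.comap_closedPoint φ
  exact (congrArg (X.fromSpecStalk (genericPoint X)) h1).trans X.fromSpecStalk_closedPoint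

variable [QuasiCompact (mor φ)] [QuasiSeparated (mor φ)]

theorem toNormalization_closedPoint :
    (mor φ).toNormalization (IsLocalRing.closedPoint K) = genericPoint (mor φ).normalization := by
  refine eq_genericPoint (mor φ).fromNormalization _ ?_
  refine Eq.trans ?_ (mor_closedPoint φ)
  exact (congrArg (fun f : Spec (CommRingCat.of K) ⟶ X => f (IsLocalRing.closedPoint K))
    (mor φ).toNormalization_fromNormalization)

theorem fromNormalization_genericPoint :
    (mor φ).fromNormalization (genericPoint (mor φ).normalization) = genericPoint X := by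
  rw [← toNormalization_closedPoint φ]
  refine Eq.trans ?_ (mor_closedPoint φ)
  exact (congrArg (fun f : Spec (CommRingCat.of K) ⟶ X => f (IsLocalRing.closedPoint K))
    (mor φ).toNormalization_fromNormalization)

theorem preimage_genericPoint :
    (mor φ).fromNormalization ⁻¹' {genericPoint X} = {genericPoint (mor φ).normalization} := by
  ext a
  simp only [Set.mem_preimage, Set.mem_singleton_iff]
  refine ⟨eq_genericPoint _ a, ?_⟩
  rintro rfl
  exact fromNormalization_genericPoint φ

theorem isField_stalk : IsField ((mor φ).normalization.presheaf.stalk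
    ((mor φ).toNormalization (IsLocalRing.closedPoint K))) :=
  K33.GenStalk.isField_stalk _ (toNormalization_closedPoint φ)

theorem injective_stalkClosedPointTo :
    Function.Injective (Scheme.stalkClosedPointTo (mor φ).toNormalization).hom := by
  let _ := (isField_stalk φ).toField
  exact RingHom.injective (Scheme.stalkClosedPointTo (mor φ).toNormalization).hom

variable (U : X.Opens) (hfU : mor φ ⁻¹ᵁ U = ⊤) (hU : genericPoint X ∈ U)

omit [QuasiCompact (mor φ)] [QuasiSeparated (mor φ)] in
theorem toK_apply (a : Γ(X, U)) :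
    Groth.Agent.Ega2.NormChart.toK (mor φ) U hfU a = φ (X.presheaf.germ U (genericPoint X) hU a) := by
  have hloc : IsLocalHom (CommRingCat.ofHom φ).hom := inferInstanceAs (IsLocalHom φ)
  have hU' : (mor φ) (IsLocalRing.closedPoint K) ∈ U := by
    rw [mor_closedPoint φ]
    exact hU
  have h1 := Scheme.germ_stalkClosedPointTo_Spec_fromSpecStalk (R := CommRingCat.of K)
    (CommRingCat.ofHom φ) U hU'
  have h2 := (Scheme.germ_stalkClosedPointTo (R := CommRingCat.of K) (mor φ) U hU').symm.trans h1
  exact ConcreteCategory.congr_hom h2 a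

theorem stalkClosedPointTo_germ (hz : (mor φ).toNormalization (IsLocalRing.closedPoint K) ∈
    (mor φ).fromNormalization ⁻¹ᵁ U) (b : Γ((mor φ).normalization, (mor φ).fromNormalization ⁻¹ᵁ U)) :
    (Scheme.stalkClosedPointTo (mor φ).toNormalization).hom
      ((mor φ).normalization.presheaf.germ _ _ hz b) =
    Groth.Agent.Ega2.NormChart.normToK (mor φ) U hfU b := by
  have h1 := Scheme.germ_stalkClosedPointTo (R := CommRingCat.of K) (mor φ).toNormalization _ hz
  exact ConcreteCategory.congr_hom h1 b

theorem range_stalkClosedPointTo :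
    Set.range (Scheme.stalkClosedPointTo (mor φ).toNormalization).hom =
      {y : K | φ.IsIntegralElem y} := by
  obtain ⟨_, ⟨U, hU, rfl⟩, hx, -⟩ := X.isBasis_affineOpens.exists_subset_of_mem_open
    (Set.mem_univ (genericPoint X)) isOpen_univ
  have hneU : Nonempty U := ⟨⟨_, hx⟩⟩
  have hfU : mor φ ⁻¹ᵁ U = ⊤ := preimage_eq_top (mor φ) U (IsLocalRing.closedPoint K) (by
    rw [mor_closedPoint φ]
    exact hx)
  let V := (mor φ).fromNormalization ⁻¹ᵁ U
  have hV : IsAffineOpen V := hU.preimage (mor φ).fromNormalization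
  have hz : (mor φ).toNormalization (IsLocalRing.closedPoint K) ∈ V := by
    change (mor φ).fromNormalization ((mor φ).toNormalization (IsLocalRing.closedPoint K)) ∈ U
    rw [toNormalization_closedPoint, fromNormalization_genericPoint]
    exact hx
  let _ := (isField_stalk φ).toField
  let st := (Scheme.stalkClosedPointTo (mor φ).toNormalization).hom
  let ge := ((mor φ).normalization.presheaf.germ V _ hz).hom
  let j := Groth.Agent.Ega2.NormChart.normToK (mor φ) U hfU
  have hst : ∀ b, st (ge b) = j b := stalkClosedPointTo_germ φ U hfU hz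
  let al := (X.presheaf.germ U (genericPoint X) hx).hom
  have hto : Groth.Agent.Ega2.NormChart.toK (mor φ) U hfU = φ.comp al :=
    RingHom.ext (toK_apply φ U hfU hx)
  have hjint : ∀ b, φ.IsIntegralElem (j b) := fun b => by
    have h1 := (Groth.Agent.Ega2.NormChart.mem_range_normToK (mor φ) U hfU hU (j b)).mp ⟨b, rfl⟩
    rw [hto] at h1
    exact h1.of_comp
  let _ : Algebra X.functionField K := φ.toAlgebra
  ext y
  constructor
  · rintro ⟨s, rfl⟩
    let _ : Algebra Γ((mor φ).normalization, V) ((mor φ).normalization.presheaf.stalk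
      ((mor φ).toNormalization (IsLocalRing.closedPoint K))) := ge.toAlgebra
    have hloc : IsLocalization.AtPrime ((mor φ).normalization.presheaf.stalk
        ((mor φ).toNormalization (IsLocalRing.closedPoint K))) (hV.primeIdealOf ⟨_, hz⟩).asIdeal :=
      hV.isLocalization_stalk ⟨_, hz⟩
    obtain ⟨⟨b, c⟩, hbc⟩ := IsLocalization.surj (hV.primeIdealOf ⟨_, hz⟩).asIdeal.primeCompl s
    have hc : ge c ≠ 0 := (IsLocalization.map_units _ c).ne_zero
    have hjc : j c ≠ 0 := by
      rw [← hst]
      exact (map_ne_zero st).mpr hc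
    have h1 : st s * j c = j b := by
      rw [← hst, ← hst, ← map_mul]
      exact congrArg st hbc
    have h2 : st s = j b * (j c)⁻¹ := by
      rw [← h1, mul_inv_cancel_right₀ hjc]
    change φ.IsIntegralElem (st s)
    rw [h2]
    have h3 : IsIntegral X.functionField (j b) := hjint b
    have h4 : IsIntegral X.functionField (j c) := hjint c
    exact h3.mul h4.inv
  · intro hy
    let _ : Algebra Γ(X, U) X.functionField := al.toAlgebra
    let _ : Algebra Γ(X, U) K := (φ.comp al).toAlgebra
    have : IsScalarTower Γ(X, U) X.functionField K := IsScalarTower.of_algebraMap_eq fun _ => rfl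
    have hloc : IsFractionRing Γ(X, U) X.functionField :=
      functionField_isFractionRing_of_isAffineOpen X U hU
    obtain ⟨m, hm⟩ := IsIntegral.exists_multiple_integral_of_isLocalization
      (nonZeroDivisors Γ(X, U)) (Rₘ := X.functionField) y hy
    have hm' : (Groth.Agent.Ega2.NormChart.toK (mor φ) U hfU).IsIntegralElem (φ (al m) * y) := by
      rw [hto]
      exact hm
    obtain ⟨b, hb⟩ := (Groth.Agent.Ega2.NormChart.mem_range_normToK (mor φ) U hfU hU _).mpr hm'
    have hm0 : φ (al m) ≠ 0 := by
      rw [map_ne_zero]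
      exact IsFractionRing.to_map_ne_zero_of_mem_nonZeroDivisors (R := Γ(X, U)) m.2
    have hc : φ (al m) = j ((mor φ).fromNormalization.app U m) := by
      have := RingHom.congr_fun (Groth.Agent.Ega2.NormChart.normToK_comp (mor φ) U hfU) (m : Γ(X, U))
      rw [hto] at this
      exact this.symm
    refine ⟨(ge ((mor φ).fromNormalization.app U m))⁻¹ * ge b, ?_⟩
    change st _ = y
    rw [map_mul, map_inv₀, hst, hst, ← hc]
    change _ * j b = y
    rw [show j b = φ (al m) * y from hb, inv_mul_cancel_left₀ hm0]

end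

end K33.NormField
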