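import Groth.Agent.Ega2.DVRDominate
import Mathlib.FieldTheory.IntermediateField.Adjoin.Basic

/-!
# Discrete valuation rings of finitely generated extensions of the fraction field
-/

set_option autoImplicit false
set_option linter.unusedSectionVars false

universe u

namespace K33.DvrField

open IsLocalRing Groth.Agent.Ega2

variable (A : Type*) [CommRing A] [IsDomain A] (K : Type*) [Field K] [Algebra A K]
  [IsFractionRing A K] (L : Type*) [Field L] [Algebra K L] [Algebra A L] [IsScalarTower A K L]

/-- A finitely generated extension of the fraction field is generated as a field by the ring and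
finitely many elements. -/
theorem exists_finset_closure (hfg : (⊤ : IntermediateField K L).FG) :
    ∃ S : Finset L, Subfield.closure (Set.range (algebraMap A L) ∪ S) = ⊤ := by
  obtain ⟨S, hS⟩ := hfg
  refine ⟨S, ?_⟩
  have h1 : (IntermediateField.adjoin K (S : Set L)).toSubfield = ⊤ := by rw [hS]; rfl
  rw [IntermediateField.adjoin_toSubfield] at h1
  rw [eq_top_iff, ← h1, Subfield.closure_le]
  rintro x (⟨k, rfl⟩ | hx)
  · obtain ⟨a, b, hb, rfl⟩ := IsFractionRing.div_surjective (A := A) k
    rw [map_div₀, ← IsScalarTower.algebraMap_apply, ← IsScalarTower.algebraMap_apply]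
    exact div_mem (Subfield.subset_closure (Or.inl ⟨a, rfl⟩))
      (Subfield.subset_closure (Or.inl ⟨b, rfl⟩))
  · exact Subfield.subset_closure (Or.inr hx)

include K in
theorem algebraMap_injective : Function.Injective (algebraMap A L) := by
  rw [IsScalarTower.algebraMap_eq A K L]
  exact (algebraMap K L).injective.comp (IsFractionRing.injective A K)

theorem exists_dvr_dominating [IsNoetherianRing A] [IsLocalRing A] (hA : ¬ IsField A)
    (hfg : (⊤ : IntermediateField K L).FG) :
    ∃ R : ValuationSubring L, IsDiscreteValuationRing R ∧ (∀ a : A, algebraMap A L a ∈ R) ∧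
      ∀ a, algebraMap A L a ∈ R.nonunits ↔ a ∈ maximalIdeal A := by
  obtain ⟨S, hS⟩ := exists_finset_closure A K L hfg
  exact DVRDominate.exists_dvr_of_isLocalRing (algebraMap_injective A K L)
    (fun h => hA (IsLocalRing.isField_iff_maximalIdeal_eq.2 h)) S hS

theorem exists_dvr_not_mem [IsNoetherianRing A] (hfg : (⊤ : IntermediateField K L).FG) (x : L)
    (hx : ¬ IsIntegral A x) :
    ∃ R : ValuationSubring L, IsDiscreteValuationRing R ∧ (∀ a : A, algebraMap A L a ∈ R) ∧
      x ∉ R := by
  obtain ⟨S, hS⟩ := exists_finset_closure A K L hfg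
  have h1 : IsIntegrallyClosedIn (integralClosure A L).toSubring L := by
    rw [isIntegrallyClosedIn_iff]
    refine ⟨Subtype.val_injective, fun {y} hy => ?_⟩
    have h2 : IsIntegral (integralClosure A L) y := hy
    have h3 : y ∈ integralClosure A L := isIntegral_trans (R := A) y h2
    exact ⟨⟨y, h3⟩, rfl⟩
  obtain ⟨V₀, hV₀, hxV₀⟩ :=
    Subring.exists_le_valuationSubring_of_isIntegrallyClosedIn
      (R := (integralClosure A L).toSubring) (x := x) hx
  have hx0 : x ≠ 0 := by
    rintro rfl
    exact hxV₀ V₀.zero_mem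
  have h2 : x⁻¹ ∈ V₀.nonunits := (ValuationSubring.inv_mem_nonunits_iff _).mpr (Or.inr hxV₀)
  have h3 : x⁻¹ ∈ V₀ := (V₀.mem_or_inv_mem x).resolve_left hxV₀
  obtain ⟨V, hV, hV1, -, hV3⟩ := DVRDominate.exists_dvr_approx S hS V₀
    (fun r => hV₀ ((integralClosure A L).algebraMap_mem r)) {x⁻¹} (by simpa using h3)
    ⟨x⁻¹, Or.inl (by simp), inv_ne_zero hx0, h2⟩
  refine ⟨V, hV, hV1, fun h => ?_⟩
  have h4 := (hV3 x⁻¹ (by simp)).2.2 h2
  rw [ValuationSubring.inv_mem_nonunits_iff] at h4
  exact (h4.resolve_left hx0) h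

theorem mem_of_isIntegral (x : L) (hx : IsIntegral A x) (R : ValuationSubring L)
    (hR : ∀ a : A, algebraMap A L a ∈ R) : x ∈ R := by
  obtain ⟨P, hP, hPx⟩ := hx
  have h1 : IsIntegral R x := by
    let f : A →+* R := (algebraMap A L).codRestrict R.toSubring hR
    refine ⟨P.map f, hP.map f, ?_⟩
    rw [Polynomial.eval₂_map]
    exact hPx
  obtain ⟨y, hy⟩ := IsIntegrallyClosed.isIntegral_iff.1 h1
  rw [← hy]
  exact y.2

end K33.DvrField
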