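import Groth.Agent.Ega2.H275.RelDesc
import Groth.Agent.Ega2.H292.NormData
import Groth.Agent.VarietyA.FinTriv
import Groth.Agent.Flat2H.InvGlue

/-!
# The norm of an invertible module along a finite locally free morphism, and ampleness
-/

set_option autoImplicit false

universe u

open CategoryTheory CategoryTheory.Limits AlgebraicGeometry TopologicalSpace

namespace K33.NormInv

open Groth.Agent.Fdesc.LocGen Groth.Agent.Ega2.H275.FrameNorm Groth.Agent.Ega2.ExtCoeff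
  Groth.Agent.Ega2.Nv Groth.Agent.Ega2.Ample Groth.Agent.Ega2.RelAmp

variable {X X' : Scheme.{u}}

/-- A chart of `X` for the norm of the module `L'` on `X'`: an affine open with a frame of the direct
image of the structure sheaf and a generator of `L'` over its preimage. -/
structure Chart (g : X' ⟶ X) (L' : X'.Modules) where
  /-- the open -/
  V : X.Opens
  aff : IsAffineOpen V
  /-- the rank -/
  r : ℕ
  /-- the frame -/
  fr : Fr g V r
  /-- the generator -/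
  e : Γ(L', g ⁻¹ᵁ V)
  gen : IsGen e

variable {g : X' ⟶ X} {L' : X'.Modules}

/-- Every point has arbitrarily small charts. -/
theorem exists_chart [IsFinite g] (hL' : PicF.IsInvertible L')
    (hfr : ∀ x : X, ∃ (W : X.Opens) (r : ℕ), x ∈ W ∧ Nonempty (Fr g W r))
    (U : X.Opens) (x : X) (hx : x ∈ U) : ∃ p : Chart g L', x ∈ p.V ∧ p.V ≤ U := by
  obtain ⟨W, r, hxW, ⟨fr⟩⟩ := hfr x
  obtain ⟨W₁, e, hx₁, hW₁, he⟩ :=
    Groth.Agent.VarietyA.FinTriv.exists_isGen_preimage g L' hL' x (U ⊓ W) ⟨hx, hxW⟩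
  obtain ⟨V, hV, hxV, hVW⟩ := exists_isAffineOpen_mem_and_subset (x := x) (U := W₁) hx₁
  have hle : V ≤ W₁ := hVW
  exact ⟨⟨V, hV, r, fr.restr (hle.trans (hW₁.trans inf_le_right)), res L' (pre g hle) e, he.res _⟩,
    hxV, hle.trans (hW₁.trans inf_le_left)⟩

/-- The restriction of a chart. -/
noncomputable def Chart.restr (p : Chart g L') {V : X.Opens} (hV : IsAffineOpen V) (h : V ≤ p.V) :
    Chart g L' := ⟨V, hV, p.r, p.fr.restr h, res L' (pre g h) p.e, p.gen.res _⟩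

variable (g L') in
/-- `M` is a norm of the module `L'`. -/
def IsNorm (M : X.Modules) : Prop :=
  ∃ e : ∀ p : Chart g L', Γ(M, p.V), (∀ p, IsGen (e p)) ∧
    ∀ (p q : Chart g L') (γ : Γ(X', g ⁻¹ᵁ (p.V ⊓ q.V))),
      res L' (pre g inf_le_left) p.e = γ • res L' (pre g inf_le_right) q.e →
      res M inf_le_left (e p) = nm g (p.V ⊓ q.V) γ • res M inf_le_right (e q)

theorem exists_isNorm [IsFinite g] : ∃ M : X.Modules, IsNorm g L' M := by
  have h : ∀ p q : Chart g L', ∃ γ : Γ(X', g ⁻¹ᵁ (p.V ⊓ q.V)),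
      res L' (pre g inf_le_left) p.e = γ • res L' (pre g inf_le_right) q.e := fun p q =>
    (q.gen.res (pre g inf_le_right)).exists_eq _
  choose γ hγ using h
  have huniq : ∀ (p q : Chart g L') (γ' : Γ(X', g ⁻¹ᵁ (p.V ⊓ q.V))),
      res L' (pre g inf_le_left) p.e = γ' • res L' (pre g inf_le_right) q.e → γ' = γ p q := by
    intro p q γ' h
    refine (q.gen.res (pre g inf_le_right)).ext ?_
    rw [← h, hγ]
  obtain ⟨M, e, he, he'⟩ := Groth.Agent.Flat2H.InvGlue.exists_module_of_cocycle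
    (fun p : Chart g L' => p.V) (fun p q => nm g (p.V ⊓ q.V) (γ p q)) (by
      intro p
      have h1 : (1 : Γ(X', g ⁻¹ᵁ (p.V ⊓ p.V))) = γ p p := huniq p p 1 (by rw [one_smul])
      change nm g (p.V ⊓ p.V) (γ p p) = 1
      rw [← h1]
      exact map_one _) (by
      intro p q r
      have hpq : p.V ⊓ (q.V ⊓ r.V) ≤ p.V ⊓ q.V := by gcongr; exact inf_le_left
      have hqr : p.V ⊓ (q.V ⊓ r.V) ≤ q.V ⊓ r.V := inf_le_right
      have hpr : p.V ⊓ (q.V ⊓ r.V) ≤ p.V ⊓ r.V := by gcongr; exact inf_le_right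
      have e1 := p.fr.nm_ores (V := p.V ⊓ q.V) inf_le_left hpq (γ p q)
      have e2 := q.fr.nm_ores (V := q.V ⊓ r.V) inf_le_left hqr (γ q r)
      have e3 := p.fr.nm_ores (V := p.V ⊓ r.V) inf_le_left hpr (γ p r)
      change ores hpq (nm g _ (γ p q)) * ores hqr (nm g _ (γ q r)) = ores hpr (nm g _ (γ p r))
      rw [← e1, ← e2, ← e3, ← map_mul]
      congr 1
      refine (r.gen.res (pre g (hqr.trans inf_le_right))).ext ?_
      have h1 := congrArg (res L' (pre g hpq)) (hγ p q)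
      have h2 := congrArg (res L' (pre g hqr)) (hγ q r)
      have h3 := congrArg (res L' (pre g hpr)) (hγ p r)
      simp only [res_res, res_smul] at h1 h2 h3
      rw [mul_smul, ← h2, ← h1, h3])
  refine ⟨M, e, he, fun p q γ' h => ?_⟩
  rw [huniq p q γ' h]
  exact he' p q

theorem mem_basicOpen_nm_iff [IsFinite g] {V : X.Opens} {r : ℕ} (fr : Fr g V r)
    (b : Γ(X', g ⁻¹ᵁ V)) (z : X) (hz : z ∈ V) :
    z ∈ X.basicOpen (nm g V b) ↔ ∀ y, g y = z → y ∈ X'.basicOpen b := by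
  constructor
  · intro h y hy
    exact Groth.Agent.Ega2.H275.FrameData.mem_basicOpen_nm fr b h hy
  · intro h
    have hcl : IsClosed (g '' ((X'.basicOpen b : X'.Opens) : Set X')ᶜ) :=
      g.isClosedMap _ (X'.basicOpen b).isOpen.isClosed_compl
    let C : X.Opens := ⟨(g '' ((X'.basicOpen b : X'.Opens) : Set X')ᶜ)ᶜ, hcl.isOpen_compl⟩
    have hzC : z ∈ C := by
      rintro ⟨x₁, hx₁, hx₁'⟩
      exact hx₁ (h x₁ hx₁')
    have hle : V ⊓ C ≤ V := inf_le_left
    have hle' : g ⁻¹ᵁ (V ⊓ C) ≤ X'.basicOpen b := by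
      intro x₁ hx₁
      by_contra hcon
      exact hx₁.2 ⟨x₁, hcon, rfl⟩
    have h1 : IsUnit (ores (X'.basicOpen_le b) b) := RingedSpace.isUnit_res_basicOpen _ b
    have h2 : IsUnit (ores (pre g hle) b) := by
      have := h1.map (ores hle')
      rwa [ores_ores] at this
    rw [← fr.isUnit_nm_iff hle, fr.nm_ores le_rfl hle] at h2
    have h4 : X.basicOpen (ores hle (nm g V b)) = V ⊓ C := X.basicOpen_of_isUnit h2
    have h5 : z ∈ X.basicOpen (ores hle (nm g V b)) := by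
      rw [h4]
      exact ⟨hz, hzC⟩
    rw [basicOpen_res] at h5
    exact h5.2

/-- Norms of sections of powers of an invertible module. -/
theorem exists_norm_sec [IsFinite g] (hL' : PicF.IsInvertible L')
    (hfr : ∀ x : X, ∃ (W : X.Opens) (r : ℕ), x ∈ W ∧ Nonempty (Fr g W r))
    {M : X.Modules} (hM : IsNorm g L' M) {U : X.Opens} {m : ℕ}
    (s : Γ(CohB1.tensorPow L' m, g ⁻¹ᵁ U)) :
    ∃ t : Γ(CohB1.tensorPow M m, U),
      (∀ x ∈ U, x ∈ nv _ t ↔ ∀ y, g y = x → y ∈ nv _ s) ∧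
      (∀ p : Chart g L', p.V ≤ U → ∃ c : Γ(X, p.V), p.V ⊓ nv _ t = X.basicOpen c) := by
  obtain ⟨e, he, htr⟩ := hM
  let ι : Type u := {p : Chart g L' // p.V ≤ U}
  let V : ι → X.Opens := fun p => p.1.V
  have hV : ∀ p, V p ≤ U := fun p => p.2
  have hcov : ∀ x ∈ U, ∃ p, x ∈ V p := by
    intro x hx
    obtain ⟨p, hxp, hp⟩ := exists_chart hL' hfr U x hx
    exact ⟨⟨p, hp⟩, hxp⟩
  have h2 : ∀ p q : ι, ∃ γ : Γ(X', g ⁻¹ᵁ (V p ⊓ V q)),
      res L' (pre g inf_le_left) p.1.e = γ • res L' (pre g inf_le_right) q.1.e := fun p q =>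
    (q.1.gen.res (pre g inf_le_right)).exists_eq _
  choose γ hγ using h2
  have hgg : ∀ p : ι, IsGen (pow p.1.e m) := fun p => p.1.gen.pow m
  have hgh : ∀ p : ι, IsGen (pow (e p.1) m) := fun p => (he p.1).pow m
  have h3 : ∀ p : ι, ∃ b : Γ(X', g ⁻¹ᵁ (V p)),
      res _ (g.preimage_mono (hV p)) s = b • pow p.1.e m :=
    fun p => (hgg p).exists_eq _
  choose b hb using h3
  have hrel : ∀ p q, ores (pre g inf_le_right : g ⁻¹ᵁ (V p ⊓ V q) ≤ _) (b q) =
      ores (pre g inf_le_left : g ⁻¹ᵁ (V p ⊓ V q) ≤ _) (b p) * (γ p q) ^ m := fun p q =>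
    coef_rel s (g.preimage_mono (hV p)) (g.preimage_mono (hV q)) (hgg q) _ _ (hb p) (hb q) _
      (by
        rw [res_pow, res_pow]
        exact (congrArg (fun z => pow z m) (hγ p q)).trans (Groth.Agent.Fdesc.LocGen.smul_pow _ _ _))
  let c : ∀ p, Γ(X, V p) := fun p => nm g (V p) (b p)
  have hcrel : ∀ p q, ores (inf_le_right : V p ⊓ V q ≤ _) (c q) =
      ores (inf_le_left : V p ⊓ V q ≤ _) (c p) * (nm g (V p ⊓ V q) (γ p q)) ^ m := by
    intro p q
    rw [← p.1.fr.nm_ores le_rfl inf_le_left, ← q.1.fr.nm_ores le_rfl inf_le_right, ← map_pow,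
      ← map_mul, hrel p q]
  obtain ⟨t, ht⟩ := exists_of_coef (CohB1.tensorPow M m) V hV
    (fun x hx => by
      obtain ⟨p, hp⟩ := hcov x hx
      exact TopologicalSpace.Opens.mem_iSup.2 ⟨p, hp⟩)
    (fun p => pow (e p.1) m) c (fun p q => (nm g (V p ⊓ V q) (γ p q)) ^ m)
    (fun p q => by
      have h4 := htr p.1 q.1 (γ p q) (hγ p q)
      rw [res_pow, res_pow, ← Groth.Agent.Fdesc.LocGen.smul_pow]
      exact congrArg (fun z => pow z m) h4) hcrel
  have hnvh : ∀ p, V p ⊓ nv _ t = X.basicOpen (c p) := fun p =>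
    nv_inf_of_eq_smul t (hV p) (hgh p) (c p) (ht p)
  have hnvg : ∀ p, g ⁻¹ᵁ (V p) ⊓ nv _ s = X'.basicOpen (b p) := fun p =>
    nv_inf_of_eq_smul s (g.preimage_mono (hV p)) (hgg p) (b p) (hb p)
  refine ⟨t, ?_, ?_⟩
  · intro x hx
    obtain ⟨p, hp⟩ := hcov x hx
    have h5 : x ∈ nv _ t ↔ x ∈ X.basicOpen (c p) := by
      rw [← hnvh p]
      exact ⟨fun h => ⟨hp, h⟩, fun h => h.2⟩
    rw [h5, mem_basicOpen_nm_iff p.1.fr (b p) x hp]
    refine forall_congr' fun y => imp_congr_right fun hy => ?_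
    have hyp : y ∈ g ⁻¹ᵁ (V p) := by
      change g y ∈ V p
      rwa [hy]
    rw [← hnvg p]
    exact ⟨fun h => h.2, fun h => ⟨hyp, h⟩⟩
  · intro p hp
    exact ⟨c ⟨p, hp⟩, hnvh ⟨p, hp⟩⟩

/-- Ampleness of the norm. -/
theorem ampleOn_norm [IsFinite g] [Surjective g] (hL' : PicF.IsInvertible L')
    (hfr : ∀ x : X, ∃ (W : X.Opens) (r : ℕ), x ∈ W ∧ Nonempty (Fr g W r))
    {M : X.Modules} (hM : IsNorm g L' M) {U : X.Opens} (h : AmpleOn L' (g ⁻¹ᵁ U)) : AmpleOn M U := by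
  refine ⟨?_, ?_, ?_⟩
  · obtain ⟨e, he, -⟩ := hM
    intro x hx
    obtain ⟨p, hxp, hp⟩ := exists_chart hL' hfr U x hx
    exact ⟨p.V, e p, hxp, hp, he p⟩
  · have h1 : g '' ((g ⁻¹ᵁ U : X'.Opens) : Set X') = (U : Set X) :=
      Set.image_preimage_eq _ g.surjective
    rw [← h1]
    exact h.isCompact.image g.continuous
  · intro x hx
    obtain ⟨p, hxp, hp⟩ := exists_chart hL' hfr U x hx
    obtain ⟨m, hm, s, hs1, hs2⟩ := Groth.Agent.Ega2.H292.NormData.exists_nv_of_finite h (g ⁻¹' {x})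
      (g.finite_preimage_singleton x) (g ⁻¹ᵁ p.V) (by
        intro x₁ hx₁
        change g x₁ ∈ p.V
        rwa [show g x₁ = x from hx₁]) (g.preimage_mono hp)
    obtain ⟨t, ht1, ht2⟩ := exists_norm_sec hL' hfr hM s
    obtain ⟨c, hc⟩ := ht2 p hp
    have hle : nv _ t ≤ p.V := by
      intro z hz
      have hzU : z ∈ U := nv_le _ t hz
      obtain ⟨y, rfl⟩ := g.surjective z
      exact hs2 ((ht1 _ hzU).1 hz y rfl)
    refine ⟨m, hm, t, (ht1 x hx).2 fun y hy => hs1 hy, ?_⟩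
    rw [inf_eq_right.2 hle] at hc
    rw [hc]
    exact p.aff.basicOpen c

theorem isInvertible_norm [IsFinite g] (hL' : PicF.IsInvertible L')
    (hfr : ∀ x : X, ∃ (W : X.Opens) (r : ℕ), x ∈ W ∧ Nonempty (Fr g W r))
    {M : X.Modules} (hM : IsNorm g L' M) : PicF.IsInvertible M := by
  obtain ⟨e, he, -⟩ := hM
  rw [isInvertible_iff]
  intro x
  obtain ⟨p, hxp, -⟩ := exists_chart hL' hfr ⊤ x trivial
  exact ⟨p.V, e p, hxp, he p⟩

/-- The norm of a relatively ample invertible module is relatively ample. -/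
theorem isRelAmple_norm [IsFinite g] [Surjective g] (hL' : PicF.IsInvertible L')
    (hfr : ∀ x : X, ∃ (W : X.Opens) (r : ℕ), x ∈ W ∧ Nonempty (Fr g W r))
    {M : X.Modules} (hM : IsNorm g L' M) {Y : Scheme.{u}} (f : X ⟶ Y)
    (h : RelAmple.IsRelAmple (g ≫ f) L') : RelAmple.IsRelAmple f M := by
  rw [isRelAmple_iff] at h ⊢
  have key : ∀ V : Y.affineOpens, AmpleOn M (f ⁻¹ᵁ V.1) := fun V =>
    ampleOn_norm hL' hfr hM (h.2 V)
  exact ⟨quasiCompact_iff_forall_isAffineOpen.2 fun V hV => (key ⟨V, hV⟩).isCompact, key⟩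

end K33.NormInv
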