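import Groth.Agent.VarietyB.DimSch
import Mathlib.AlgebraicGeometry.Noetherian
import Mathlib.AlgebraicGeometry.Morphisms.FiniteType

/-!
# Dimension of the local rings at closed points and transcendence degrees at generic points
-/

set_option autoImplicit false

open CategoryTheory CategoryTheory.Limits AlgebraicGeometry TopologicalSpace Topology Order

namespace K33.CurveDim

universe u

open Groth.Agent.VarietyB

attribute [local instance] Curv2.resAlgebra DimSch.secAlgebra

/-- A point without proper generizations is the generic point of an irreducible component. -/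
theorem closure_mem_irreducibleComponents {X : Type*} [TopologicalSpace X] [QuasiSober X] (ξ : X)
    (h : ∀ y : X, y ⤳ ξ → ξ ⤳ y) : closure ({ξ} : Set X) ∈ irreducibleComponents X := by
  obtain ⟨y, hy⟩ := QuasiSober.sober (isIrreducible_irreducibleComponent (x := ξ))
    isClosed_irreducibleComponent
  have h1 : y ⤳ ξ := by
    rw [specializes_iff_mem_closure, hy.def]
    exact mem_irreducibleComponent
  have h2 := h y h1
  have h3 : closure ({ξ} : Set X) = closure {y} :=
    subset_antisymm (h1.closure_subset) (h2.closure_subset)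
  rw [h3, hy.def]
  exact irreducibleComponent_mem_irreducibleComponents ξ

theorem specializes_of_mem {X : Type*} [TopologicalSpace X] (ξ : X)
    (h : closure ({ξ} : Set X) ∈ irreducibleComponents X) (y : X) (hy : y ⤳ ξ) : ξ ⤳ y := by
  have h1 : closure ({ξ} : Set X) ⊆ closure {y} := hy.closure_subset
  have h2 : IsIrreducible (closure ({y} : Set X)) := isIrreducible_singleton.closure
  have h3 := h.2 h2 h1
  exact specializes_iff_mem_closure.2 (h3 (subset_closure rfl))

variable (k : Type u) [Field k] (X : Scheme.{u}) [X.Over (Spec (CommRingCat.of k))]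
  [LocallyOfFiniteType (X ↘ Spec (CommRingCat.of k))]

theorem dim_closedPoint {n : ℕ}
    (h : ∀ x : X, closure ({x} : Set X) ∈ irreducibleComponents X → DimSch.trd k X x = n)
    (x : X) (hx : IsClosed ({x} : Set X)) : ringKrullDim (X.presheaf.stalk x) = n := by
  obtain ⟨U, hU, hxU, -⟩ := exists_isAffineOpen_mem_and_subset (X := X) (U := ⊤) (x := x) trivial
  have : Algebra.FiniteType k Γ(X, U) := DimSch.toSections_finiteType k X hU
  have : IsNoetherianRing Γ(X, U) := Algebra.FiniteType.isNoetherianRing k Γ(X, U)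
  obtain ⟨q', hq', hle, hht⟩ := DimRing.exists_minimalPrimes_height_eq
    (hU.primeIdealOf ⟨x, hxU⟩).asIdeal
  let q : PrimeSpectrum Γ(X, U) := ⟨q', hq'.1.1⟩
  let ξ : X := hU.fromSpec q
  have hξU : ξ ∈ U := by
    have : ξ ∈ Set.range hU.fromSpec := ⟨q, rfl⟩
    rwa [hU.range_fromSpec] at this
  have hpr : hU.primeIdealOf ⟨ξ, hξU⟩ = q := by
    apply hU.fromSpec.isOpenEmbedding.injective
    rw [hU.fromSpec_primeIdealOf]
  have hgen : closure ({ξ} : Set X) ∈ irreducibleComponents X := by
    apply closure_mem_irreducibleComponents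
    intro y hy
    have hyU : y ∈ U := hy.mem_open U.isOpen hξU
    have h1 : hU.fromSpec (hU.primeIdealOf ⟨y, hyU⟩) ⤳ hU.fromSpec q := by
      rw [hU.fromSpec_primeIdealOf]; exact hy
    have h2 : hU.primeIdealOf ⟨y, hyU⟩ ⤳ q :=
      (hU.isOpenImmersion_fromSpec.base_open.isInducing.specializes_iff).mp h1
    have h3 : (hU.primeIdealOf ⟨y, hyU⟩).asIdeal ≤ q.asIdeal :=
      (PrimeSpectrum.le_iff_specializes _ _).2 h2
    have h4 : q.asIdeal ≤ (hU.primeIdealOf ⟨y, hyU⟩).asIdeal :=
      hq'.2 ⟨(hU.primeIdealOf ⟨y, hyU⟩).isPrime, bot_le⟩ h3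
    have h5 : hU.primeIdealOf ⟨y, hyU⟩ = q := PrimeSpectrum.ext (le_antisymm h3 h4)
    have h6 : y = ξ := by
      have := congrArg hU.fromSpec h5
      rwa [hU.fromSpec_primeIdealOf] at this
    rw [h6]
  have htr := h ξ hgen
  have hdim := DimSch.dim_quotient_eq_trd k hU ξ hξU
  rw [hpr, htr] at hdim
  have h7 := DimSch.dim_quotient_eq_trd k hU x hxU
  rw [DimSch.trd_eq_zero_of_isClosed k hx] at h7
  have hqp : q'.IsPrime := hq'.1.1
  have h8 := DimRing.height_quotient_add_dim k hle
  rw [DimSch.ringKrullDim_stalk hU x hxU, ← hht]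
  change ringKrullDim (Γ(X, U) ⧸ q') = n at hdim
  rw [hdim] at h8
  rw [← h8, h7]
  simp

theorem trd_generic [NoetherianSpace X] {n : ℕ}
    (h : ∀ x : X, IsClosed ({x} : Set X) → ringKrullDim (X.presheaf.stalk x) = n) (ξ : X)
    (hξ : closure ({ξ} : Set X) ∈ irreducibleComponents X) : DimSch.trd k X ξ = n := by
  have hJX : JacobsonSpace X := LocallyOfFiniteType.jacobsonSpace (X ↘ (Spec (CommRingCat.of k)))
  let C : Set X := ⋃₀ (irreducibleComponents X \ {closure {ξ}})
  have hC : IsClosed C := by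
    have hfin : (irreducibleComponents X \ {closure {ξ}}).Finite :=
      NoetherianSpace.finite_irreducibleComponents.subset Set.sdiff_subset
    have h1 : C = ⋃ Z ∈ irreducibleComponents X \ {closure {ξ}}, Z := Set.sUnion_eq_biUnion
    rw [h1]
    exact hfin.isClosed_biUnion fun Z hZ => isClosed_of_mem_irreducibleComponents Z hZ.1
  let V : X.Opens := ⟨Cᶜ, hC.isOpen_compl⟩
  have hξV : ξ ∈ V := by
    rintro ⟨Z, ⟨hZ, hZne⟩, hξZ⟩
    apply hZne
    have h1 : closure {ξ} ⊆ Z := (isClosed_of_mem_irreducibleComponents Z hZ).closure_subset_iff.2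
      (Set.singleton_subset_iff.2 hξZ)
    exact subset_antisymm (hξ.2 hZ.1 h1) h1
  have hVξ : ∀ v ∈ V, ξ ⤳ v := by
    intro v hv
    rw [specializes_iff_mem_closure]
    by_contra hcon
    apply hv
    refine ⟨irreducibleComponent v, ⟨irreducibleComponent_mem_irreducibleComponents v, ?_⟩,
      mem_irreducibleComponent⟩
    intro heq
    apply hcon
    rw [← heq]
    exact mem_irreducibleComponent
  have hirr : IrreducibleSpace (V : Scheme.{u}) := by
    have hne : Nonempty (V : Scheme.{u}) := ⟨⟨ξ, hξV⟩⟩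
    have hsp : ∀ a : (V : Scheme.{u}), (⟨ξ, hξV⟩ : (V : Scheme.{u})) ⤳ a := by
      intro a
      exact (V.ι.isOpenEmbedding.isInducing.specializes_iff).1 (hVξ (V.ι a) a.2)
    have hpre : PreirreducibleSpace (V : Scheme.{u}) := by
      refine ⟨fun A B hA hB hA' hB' => ?_⟩
      obtain ⟨a, -, ha⟩ := hA'
      obtain ⟨b, -, hb⟩ := hB'
      exact ⟨⟨ξ, hξV⟩, trivial, (hsp a).mem_open hA ha, (hsp b).mem_open hB hb⟩
    exact { toPreirreducibleSpace := hpre, toNonempty := hne }
  let _ : (V : Scheme.{u}).Over (Spec (CommRingCat.of k)) := ⟨V.ι ≫ (X ↘ Spec (CommRingCat.of k))⟩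
  have : LocallyOfFiniteType ((V : Scheme.{u}) ↘ Spec (CommRingCat.of k)) :=
    inferInstanceAs (LocallyOfFiniteType (V.ι ≫ (X ↘ Spec (CommRingCat.of k))))
  obtain ⟨x, hxV, hx⟩ := nonempty_inter_closedPoints (X := X) (Z := V) ⟨ξ, hξV⟩
    V.isOpen.isLocallyClosed
  have h1 := DimSch.localDim_eq_of_irreducible k (X := V) ⟨ξ, hξV⟩
  have h2 := DimSch.localDim_eq_of_irreducible k (X := V) ⟨x, hxV⟩
  have h3 : FlatMor.localDim (V : Scheme.{u}) ⟨ξ, hξV⟩ = FlatMor.localDim X ξ :=
    DimTop.localDim_opens V ⟨ξ, hξV⟩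
  have h4 : FlatMor.localDim (V : Scheme.{u}) ⟨x, hxV⟩ = FlatMor.localDim X x :=
    DimTop.localDim_opens V ⟨x, hxV⟩
  have h5 := DimSch.localDim_eq k ξ
  have h6 := DimSch.localDim_eq k x
  have hx' : IsClosed ({x} : Set X) := hx
  rw [DimSch.trd_eq_zero_of_isClosed k hx', h x hx'] at h6
  have h0 : ringKrullDim (X.presheaf.stalk ξ) = 0 := by
    rw [ringKrullDim_stalk_eq_coheight]
    have : Order.coheight ξ = 0 :=
      Order.coheight_eq_zero.mpr fun y hy => specializes_of_mem ξ hξ y hy
    rw [this]; rfl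
  rw [h0, zero_add] at h5
  have h7 : (DimSch.trd k X ξ : WithBot ℕ∞) = n := by
    rw [← h5, ← h3, h1, ← h2, h4, h6]
    simp
  exact_mod_cast h7

end K33.CurveDim
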