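import Mathlib.LinearAlgebra.Charpoly.Basic
import Mathlib.LinearAlgebra.Charpoly.ToMatrix
import Mathlib.LinearAlgebra.Eigenspace.Charpoly
import Mathlib.LinearAlgebra.Eigenspace.Minpoly
import Mathlib.LinearAlgebra.Matrix.Charpoly.Minpoly
import Mathlib.RingTheory.Polynomial.IsIntegral
import Mathlib.RingTheory.TensorProduct.Free
import Mathlib.RingTheory.TensorProduct.Finite
import Mathlib.RingTheory.Localization.FractionRing
import Mathlib.FieldTheory.IsAlgClosed.AlgebraicClosure

/-!
# Integrality of the coefficients of characteristic polynomials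

`isIntegral_coeff_charpoly`: if a matrix `M` over a commutative ring `K` is integral over `A`
(in the algebra of matrices), then so are the coefficients of its characteristic polynomial.
-/

set_option autoImplicit false

open Polynomial TensorProduct

namespace K33.Charpoly

/-- Integrality can be tested modulo all prime ideals. -/
theorem isIntegral_of_forall_prime {A K : Type*} [CommRing A] [CommRing K] [Algebra A K] (c : K)
    (h : ∀ q : Ideal K, q.IsPrime → IsIntegral A (Ideal.Quotient.mk q c)) : IsIntegral A c := by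
  let S : Submonoid K :=
    { carrier := {x | ∃ P : A[X], P.Monic ∧ aeval c P = x}
      one_mem' := ⟨1, monic_one, by simp⟩
      mul_mem' := by
        rintro _ _ ⟨P, hP, rfl⟩ ⟨Q, hQ, rfl⟩
        exact ⟨P * Q, hP.mul hQ, by simp⟩ }
  by_contra hc
  have h0 : Disjoint ((⊥ : Ideal K) : Set K) S := by
    rw [Set.disjoint_left]
    rintro x hx ⟨P, hP, hPx⟩
    have hx0 : x = 0 := hx
    exact hc ⟨P, hP, by rw [← aeval_def, hPx, hx0]⟩
  obtain ⟨q, hq, -, hqS⟩ := Ideal.exists_le_prime_disjoint ⊥ S h0
  obtain ⟨P, hP, hPc⟩ := h q hq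
  rw [Set.disjoint_left] at hqS
  refine hqS (a := aeval c P) ?_ ⟨P, hP, rfl⟩
  have h1 : Ideal.Quotient.mk q (aeval c P) = 0 := by
    rw [← aeval_def] at hPc
    rw [← hPc]
    exact (aeval_algHom_apply (Ideal.Quotient.mkₐ A q) c P).symm
  exact Ideal.Quotient.eq_zero_iff_mem.1 h1

theorem isIntegral_coeff_charpoly_of_isAlgClosed {A Ω ι : Type*} [CommRing A] [Field Ω]
    [IsAlgClosed Ω] [Algebra A Ω] [Fintype ι] [DecidableEq ι] (M : Matrix ι ι Ω)
    (hM : IsIntegral A M) (i : ℕ) : IsIntegral A (M.charpoly.coeff i) := by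
  obtain ⟨P, hP, hPM⟩ := hM
  refine isIntegral_coeff_of_factors _ (by rw [M.charpoly_monic]; exact isIntegral_one)
    (IsAlgClosed.splits _) ?_ i
  intro x hx
  have h1 : (Matrix.toLin' M).charpoly = M.charpoly := Matrix.charpoly_toLin' M
  rw [← h1, ← Module.End.hasEigenvalue_iff_isRoot_charpoly, Module.End.hasEigenvalue_iff_isRoot,
    Matrix.minpoly_toLin'] at hx
  have h2 : minpoly Ω M ∣ P.map (algebraMap A Ω) := by
    apply minpoly.dvd
    rw [aeval_map_algebraMap, aeval_def]
    exact hPM
  have h3 := hx.dvd h2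
  refine ⟨P, hP, ?_⟩
  rwa [IsRoot.def, eval_map] at h3

/-- If a square matrix is integral over `A` then so are the coefficients of its characteristic
polynomial. -/
theorem isIntegral_coeff_charpoly {A K ι : Type*} [CommRing A] [CommRing K]
    [Algebra A K] [Fintype ι] [DecidableEq ι] (M : Matrix ι ι K)
    (hM : IsIntegral A M) (i : ℕ) : IsIntegral A (M.charpoly.coeff i) := by
  apply isIntegral_of_forall_prime
  intro q hq
  let Ω := AlgebraicClosure (FractionRing (K ⧸ q))
  let f : (K ⧸ q) →ₐ[A] Ω := IsScalarTower.toAlgHom A (K ⧸ q) Ω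
  have hf : Function.Injective f :=
    (FaithfulSMul.algebraMap_injective (FractionRing (K ⧸ q)) Ω).comp
      (IsFractionRing.injective (K ⧸ q) (FractionRing (K ⧸ q)))
  let g : K →ₐ[A] Ω := f.comp (Ideal.Quotient.mkₐ A q)
  have h1 : IsIntegral A (g.mapMatrix M) := hM.map (g.mapMatrix : Matrix ι ι K →ₐ[A] Matrix ι ι Ω)
  have h2 := isIntegral_coeff_charpoly_of_isAlgClosed _ h1 i
  have h3 : (g.mapMatrix M).charpoly = M.charpoly.map (g : K →+* Ω) :=
    Matrix.charpoly_map M (g : K →+* Ω)
  rw [h3, coeff_map] at h2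
  exact (isIntegral_algHom_iff f hf).1 h2

/-- The matrix representation of the endomorphism algebra of `E` after base change. -/
noncomputable def rep (A K E : Type*) [CommRing A] [CommRing K] [Algebra A K] [AddCommGroup E]
    [Module A E] {ι : Type*} [Fintype ι] [DecidableEq ι] (b : Module.Basis ι K (K ⊗[A] E)) :
    Module.End A E →ₐ[A] Matrix ι ι K :=
  ((LinearMap.toMatrixAlgEquiv b).toAlgHom.restrictScalars A).comp
    (Module.End.baseChangeHom A K E)

theorem rep_charpoly {A K E : Type*} [CommRing A] [CommRing K] [Algebra A K] [AddCommGroup E]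
    [Module A E] {ι : Type*} [Fintype ι] [DecidableEq ι] (b : Module.Basis ι K (K ⊗[A] E))
    [Module.Finite K (K ⊗[A] E)] [Module.Free K (K ⊗[A] E)]
    (u : Module.End A E) : (rep A K E b u).charpoly = (u.baseChange K).charpoly := by
  rw [← LinearMap.charpoly_toMatrix (u.baseChange K) b]
  rfl

theorem isIntegral_coeff_charpoly_baseChange {A K E : Type*} [CommRing A] [CommRing K]
    [Algebra A K] [AddCommGroup E] [Module A E] [Module.Finite A E] [Module.Free K (K ⊗[A] E)]
    (u : E →ₗ[A] E) (i : ℕ) : IsIntegral A ((u.baseChange K).charpoly.coeff i) := by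
  classical
  rcases subsingleton_or_nontrivial K with hK | hK
  · rw [Subsingleton.elim ((u.baseChange K).charpoly.coeff i) 0]
    exact isIntegral_zero
  let b := Module.Free.chooseBasis K (K ⊗[A] E)
  rw [← rep_charpoly b]
  apply isIntegral_coeff_charpoly
  have : IsIntegral A (u : Module.End A E) := Algebra.IsIntegral.isIntegral u
  exact this.map (rep A K E b)

end K33.Charpoly
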