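import Groth.Agent.EGA2.K33.Charpoly
import Mathlib.RingTheory.Noetherian.Basic
import Mathlib.RingTheory.Adjoin.FG

/-!
# Finiteness of the algebra generated by the coefficients of the characteristic polynomials
-/

set_option autoImplicit false

open Polynomial TensorProduct

namespace K33.CharpolyFin

open K33.Charpoly

section Generic

variable {A K R ι : Type*} [CommRing A] [CommRing K] [Algebra A K] [Ring R] [Algebra A R]
  [Fintype ι] [DecidableEq ι] (φ : R →ₐ[A] Matrix ι ι K) {m : ℕ} (v : Fin m → R)

/-- The generic matrix `∑ X_l v_l`. -/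
noncomputable def generic : Matrix ι ι (MvPolynomial (Fin m) K) :=
  ∑ l, (MvPolynomial.X l : MvPolynomial (Fin m) K) • (φ (v l)).map MvPolynomial.C

attribute [local instance] MvPolynomial.algebraMvPolynomial in
theorem isIntegral_generic [Module.Finite A R] :
    IsIntegral (MvPolynomial (Fin m) A) (generic φ v) := by
  let A' := MvPolynomial (Fin m) A
  let K' := MvPolynomial (Fin m) K
  let c : Matrix ι ι K →ₐ[A] Matrix ι ι K' :=
    (IsScalarTower.toAlgHom A K K').mapMatrix
  have hcomm : ∀ (x : A') (y : R), Commute ((Algebra.ofId A' (Matrix ι ι K')) x) ((c.comp φ) y) :=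
    fun x y => Algebra.commutes x _
  let Ψ : A' ⊗[A] R →ₐ[A'] Matrix ι ι K' :=
    Algebra.TensorProduct.lift (Algebra.ofId A' (Matrix ι ι K')) (c.comp φ) hcomm
  have h1 : generic φ v = Ψ (∑ l, (MvPolynomial.X l : A') ⊗ₜ[A] v l) := by
    rw [map_sum]
    refine Finset.sum_congr rfl fun l _ => ?_
    refine Eq.trans ?_ (Algebra.TensorProduct.lift_tmul (Algebra.ofId A' (Matrix ι ι K'))
      (c.comp φ) hcomm (MvPolynomial.X l) (v l)).symm
    change _ = algebraMap A' (Matrix ι ι K') (MvPolynomial.X l) * c (φ (v l))
    rw [← Algebra.smul_def]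
    refine Matrix.ext fun i j => ?_
    change (MvPolynomial.X l : K') * _ = (MvPolynomial.X l : A') • (c (φ (v l)) i j)
    rw [Algebra.smul_def, MvPolynomial.algebraMap_def, MvPolynomial.map_X]
    rfl
  rw [h1]
  have h2 : IsIntegral A' (∑ l, (MvPolynomial.X l : A') ⊗ₜ[A] v l : A' ⊗[A] R) :=
    Algebra.IsIntegral.isIntegral _
  exact h2.map Ψ

/-- The coefficients of the characteristic polynomial of the generic matrix. -/
noncomputable def coeffs : Finset K :=
  letI : DecidableEq K := Classical.decEq K
  (generic φ v).charpoly.support.biUnion fun j =>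
    ((generic φ v).charpoly.coeff j).support.image fun d => ((generic φ v).charpoly.coeff j).coeff d

attribute [local instance] MvPolynomial.algebraMvPolynomial in
theorem isIntegral_coeffs [Module.Finite A R] {c : K} (hc : c ∈ coeffs φ v) : IsIntegral A c := by
  classical
  simp only [coeffs, Finset.mem_biUnion, Finset.mem_image] at hc
  obtain ⟨j, -, d, -, rfl⟩ := hc
  exact MvPolynomial.isIntegral_iff_isIntegral_coeff.1
    (isIntegral_coeff_charpoly _ (isIntegral_generic φ v) j) d

theorem coeff_mem_adjoin (j : ℕ) (d : Fin m →₀ ℕ) :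
    ((generic φ v).charpoly.coeff j).coeff d ∈ Algebra.adjoin A (coeffs φ v : Set K) := by
  classical
  by_cases hj : j ∈ (generic φ v).charpoly.support
  · by_cases hd : d ∈ ((generic φ v).charpoly.coeff j).support
    · apply Algebra.subset_adjoin
      rw [Finset.mem_coe, coeffs, Finset.mem_biUnion]
      refine ⟨j, hj, ?_⟩
      rw [Finset.mem_image]
      exact ⟨d, hd, rfl⟩
    · rw [MvPolynomial.notMem_support_iff.1 hd]
      exact zero_mem _
  · rw [Polynomial.notMem_support_iff.1 hj, MvPolynomial.coeff_zero]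
    exact zero_mem _

theorem eval_generic (a : Fin m → A) :
    (generic φ v).map (MvPolynomial.eval fun l => algebraMap A K (a l)) = φ (∑ l, a l • v l) := by
  rw [map_sum]
  ext i j
  rw [Matrix.map_apply, generic, Matrix.sum_apply, Matrix.sum_apply, map_sum]
  refine Finset.sum_congr rfl fun l _ => ?_
  rw [map_smul, Matrix.smul_apply, Matrix.smul_apply, Matrix.map_apply, smul_eq_mul, map_mul,
    MvPolynomial.eval_X, MvPolynomial.eval_C, Algebra.smul_def]

theorem coeff_charpoly_mem (hv : Submodule.span A (Set.range v) = ⊤) (x : R) (j : ℕ) :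
    (φ x).charpoly.coeff j ∈ Algebra.adjoin A (coeffs φ v : Set K) := by
  have hx : x ∈ Submodule.span A (Set.range v) := by rw [hv]; trivial
  obtain ⟨a, rfl⟩ := (Submodule.mem_span_range_iff_exists_fun A).1 hx
  rw [← eval_generic, Matrix.charpoly_map, Polynomial.coeff_map]
  rw [MvPolynomial.eval_eq]
  refine sum_mem fun d _ => mul_mem (coeff_mem_adjoin φ v j d) (prod_mem fun l _ => pow_mem ?_ _)
  exact Subalgebra.algebraMap_mem _ _

/-- The algebra generated by the coefficients of the characteristic polynomials is finite. -/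
theorem fg_adjoin [IsNoetherianRing A] [Module.Finite A R] :
    (Algebra.adjoin A {c : K | ∃ (x : R) (j : ℕ), c = (φ x).charpoly.coeff j}).toSubmodule.FG := by
  obtain ⟨m, v, hv⟩ := Module.Finite.exists_fin (R := A) (M := R)
  have h1 : (Algebra.adjoin A (coeffs φ v : Set K)).toSubmodule.FG :=
    fg_adjoin_of_finite (Finset.finite_toSet _) fun c hc => isIntegral_coeffs φ v hc
  have h2 : Algebra.adjoin A {c : K | ∃ (x : R) (j : ℕ), c = (φ x).charpoly.coeff j} ≤
      Algebra.adjoin A (coeffs φ v : Set K) := by
    apply Algebra.adjoin_le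
    rintro _ ⟨x, j, rfl⟩
    exact coeff_charpoly_mem φ v hv x j
  have h3 := isNoetherian_of_fg_of_noetherian _ h1
  exact (isNoetherian_submodule.1 h3) _ h2

end Generic

end K33.CharpolyFin
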