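import Groth.Agent.Ega3B.NormalBirational
import Groth.Agent.EGA2.K33.GenStalk
import Groth.Prelude.Def_Pi1
import Mathlib.AlgebraicGeometry.Normalization
import Mathlib.AlgebraicGeometry.Noetherian

/-!
# Extending morphisms from a normal scheme along integral morphisms
-/

set_option autoImplicit false

universe u

open CategoryTheory CategoryTheory.Limits AlgebraicGeometry

namespace K33.NormalExt

theorem fromSpecStalk_apply_of_field {Y : Scheme.{u}} [IsIntegral Y]
    (z : Spec (Y.presheaf.stalk (genericPoint Y))) :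
    Y.fromSpecStalk (genericPoint Y) z = genericPoint Y := by
  have h : z = (IsLocalRing.closedPoint (Y.presheaf.stalk (genericPoint Y)) : PrimeSpectrum _) := by
    let _ : Unique (PrimeSpectrum Y.functionField) := PrimeSpectrum.instUnique
    exact Subsingleton.elim (α := PrimeSpectrum Y.functionField) _ _
  rw [h]
  exact Y.fromSpecStalk_closedPoint

theorem isIso_stalkMap {Y : Scheme.{u}} [IsIntegral Y]
    (z : Spec (Y.presheaf.stalk (genericPoint Y))) :
    IsIso ((Y.fromSpecStalk (genericPoint Y)).stalkMap z) := by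
  have h2 : IsField (Y.presheaf.stalk (Y.fromSpecStalk (genericPoint Y) z)) :=
    K33.GenStalk.isField_stalk _ (fromSpecStalk_apply_of_field z)
  let _ := h2.toField
  rw [ConcreteCategory.isIso_iff_bijective]
  exact ⟨RingHom.injective ((Y.fromSpecStalk (genericPoint Y)).stalkMap z).hom,
    (Y.fromSpecStalk (genericPoint Y)).stalkMap_surjective z⟩

/-- An integral scheme over a normal integral scheme `Y` with a rational section has a section. -/
theorem exists_section_of_generic {Y P : Scheme.{u}} [IsIntegral Y] (hY : Pi1.IsNormalScheme Y)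
    (q : P ⟶ Y) [IsIntegralHom q] (a : Spec (Y.presheaf.stalk (genericPoint Y)) ⟶ P)
    (ha : a ≫ q = Y.fromSpecStalk (genericPoint Y)) :
    ∃ s : Y ⟶ P, s ≫ q = 𝟙 Y ∧ Y.fromSpecStalk (genericPoint Y) ≫ s = a := by
  let φ := Y.fromSpecStalk (genericPoint Y)
  have hdom : IsDomain (Y.presheaf.stalk (genericPoint Y)) :=
    inferInstanceAs (IsDomain Y.functionField)
  have hφ : IsIso φ.fromNormalization :=
    Groth.Agent.Ega3B.NormalBirational.isIso_fromNormalization (fun y => (hY y).2) φ
      (fromSpecStalk_apply_of_field _) (isIso_stalkMap _)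
  let d : φ.normalization ⟶ P := φ.normalizationDesc a q ha.symm
  have hd : d ≫ q = φ.fromNormalization := φ.normalizationDesc_comp a q ha.symm
  have hd' : φ.toNormalization ≫ d = a := φ.toNormalization_normalizationDesc a q ha.symm
  refine ⟨inv φ.fromNormalization ≫ d, ?_, ?_⟩
  · rw [Category.assoc, hd, IsIso.inv_hom_id]
  · have h1 : Y.fromSpecStalk (genericPoint Y) = φ.toNormalization ≫ φ.fromNormalization :=
      φ.toNormalization_fromNormalization.symm
    rw [h1, Category.assoc, IsIso.hom_inv_id_assoc, hd']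

instance isDominant_fromSpecStalk {Y : Scheme.{u}} [IsIntegral Y] :
    IsDominant (Y.fromSpecStalk (genericPoint Y)) := by
  refine ⟨?_⟩
  intro y
  have h : genericPoint Y ∈ Set.range (Y.fromSpecStalk (genericPoint Y)) :=
    ⟨_, Y.fromSpecStalk_closedPoint⟩
  have h2 : genericPoint Y ⤳ y := (genericPoint_spec Y).specializes trivial
  exact h2.mem_closed isClosed_closure (subset_closure h)

/-- Extension of morphisms from a dense open subscheme of a normal integral scheme along an
integral morphism. -/
theorem exists_extension {Y X X' : Scheme.{u}} [IsIntegral Y]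
    (hY : Pi1.IsNormalScheme Y) (g : X' ⟶ X) [IsIntegralHom g] (U : Y.Opens)
    (hU : Dense (U : Set Y)) (f : (U : Scheme.{u}) ⟶ X') (h : Y ⟶ X) (hfh : f ≫ g = U.ι ≫ h) :
    ∃ f' : Y ⟶ X', U.ι ≫ f' = f ∧ f' ≫ g = h := by
  have hne : (U : Set Y).Nonempty := hU.nonempty
  have hgU : genericPoint Y ∈ U :=
    ((genericPoint_spec Y).mem_open_set_iff U.isOpen).mpr (by simpa using hne)
  have : Nonempty U := ⟨⟨_, hgU⟩⟩
  -- the generic point of `Y` factors through `U`
  obtain ⟨b, hb⟩ : ∃ b : Spec (Y.presheaf.stalk (genericPoint Y)) ⟶ (U : Scheme.{u}),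
      b ≫ U.ι = Y.fromSpecStalk (genericPoint Y) := by
    refine ⟨IsOpenImmersion.lift U.ι (Y.fromSpecStalk (genericPoint Y)) ?_,
      IsOpenImmersion.lift_fac _ _ _⟩
    rintro _ ⟨z, rfl⟩
    rw [fromSpecStalk_apply_of_field, Scheme.Opens.range_ι]
    exact hgU
  let q : pullback g h ⟶ Y := pullback.snd g h
  let a : Spec (Y.presheaf.stalk (genericPoint Y)) ⟶ pullback g h :=
    pullback.lift (b ≫ f) (Y.fromSpecStalk (genericPoint Y)) (by
      rw [Category.assoc, hfh, ← Category.assoc, hb])
  obtain ⟨s, hs1, hs2⟩ := exists_section_of_generic hY q a (pullback.lift_snd _ _ _)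
  have hsg : (s ≫ pullback.fst g h) ≫ g = h := by
    rw [Category.assoc, pullback.condition, ← Category.assoc]
    change (s ≫ q) ≫ h = h
    rw [hs1, Category.id_comp]
  refine ⟨s ≫ pullback.fst g h, ?_, hsg⟩
  have hdomb : IsDominant b := by
    refine ⟨?_⟩
    intro u
    obtain ⟨z⟩ : Nonempty (Spec (Y.presheaf.stalk (genericPoint Y))) :=
      ⟨(IsLocalRing.closedPoint (Y.presheaf.stalk (genericPoint Y)) : PrimeSpectrum _)⟩
    have h1 : U.ι (b z) = genericPoint Y := by
      rw [← Scheme.Hom.comp_apply, hb]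
      exact fromSpecStalk_apply_of_field z
    have h2 : b z ⤳ u := by
      rw [← U.ι.isOpenEmbedding.isInducing.specializes_iff, h1]
      exact (genericPoint_spec Y).specializes trivial
    exact h2.mem_closed isClosed_closure (subset_closure ⟨z, rfl⟩)
  refine ext_of_isDominant_of_isSeparated g ?_ b ?_
  · rw [Category.assoc, hsg, hfh]
  · rw [← Category.assoc, hb, ← Category.assoc, hs2]
    exact pullback.lift_fst _ _ _

end K33.NormalExt
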