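import Groth.Agent.S2344
import Groth.Agent.VarietyA.ResMap
import Groth.Agent.EGA2.K33.NormalExt
import Mathlib.AlgebraicGeometry.SpreadingOut

/-!
# Morphisms from a normal curve to a proper scheme and maps of function fields
-/

set_option autoImplicit false

universe u

open CategoryTheory CategoryTheory.Limits AlgebraicGeometry

namespace K33.CurveMap

attribute [local instance] Curv2.stalkAlgebra

theorem fromSpecStalk_comp {X Y : Scheme.{u}} (u : X ⟶ Y) (x : X) (y : Y) (h : u x ⤳ y) :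
    Spec.map (Y.presheaf.stalkSpecializes h ≫ u.stalkMap x) ≫ Y.fromSpecStalk y =
      X.fromSpecStalk x ≫ u := by
  rw [Spec.map_comp, Category.assoc, Scheme.SpecMap_stalkSpecializes_fromSpecStalk,
    Scheme.SpecMap_stalkMap_fromSpecStalk]

theorem existsUnique (k : Type u) [Field k] (X Y : Scheme.{u})
    [X.Over (Spec (CommRingCat.of k))] [LocallyOfFiniteType (X ↘ (Spec (CommRingCat.of k)))]
    [QuasiCompact (X ↘ (Spec (CommRingCat.of k)))] [IsSeparated (X ↘ (Spec (CommRingCat.of k)))]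
    [IsIntegral X]
    (hX : ∀ x : X, IsClosed ({x} : Set X) → ringKrullDim (X.presheaf.stalk x) = 1)
    (hnorm : Pi1.IsNormalScheme X)
    [Y.Over (Spec (CommRingCat.of k))] [IsProper (Y ↘ (Spec (CommRingCat.of k)))] [IsIntegral Y]
    (φ : Y.presheaf.stalk (genericPoint Y) ⟶ X.presheaf.stalk (genericPoint X))
    (hφ : ∀ c : k, φ.hom (Curv2.stalkMap k Y (genericPoint Y) c) =
      Curv2.stalkMap k X (genericPoint X) c) :
    ∃! u : X ⟶ Y, u ≫ (Y ↘ (Spec (CommRingCat.of k))) = X ↘ (Spec (CommRingCat.of k)) ∧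
      ∃ hu : u.base (genericPoint X) = genericPoint Y,
        Y.presheaf.stalkSpecializes (specializes_of_eq hu) ≫ u.stalkMap (genericPoint X) = φ := by
  let s : Spec (X.presheaf.stalk (genericPoint X)) ⟶ Y := Spec.map φ ≫ Y.fromSpecStalk (genericPoint Y)
  have hs : s ≫ (Y ↘ (Spec (CommRingCat.of k))) =
      X.fromSpecStalk (genericPoint X) ≫ (X ↘ (Spec (CommRingCat.of k))) := by
    rw [Category.assoc, ← Groth.Agent.VarietyA.ResMap.specMap_stalkMap,
      ← Groth.Agent.VarietyA.ResMap.specMap_stalkMap, ← Spec.map_comp]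
    congr 1
    ext c
    exact hφ c
  obtain ⟨U, hxU, g₀, hg₀, hg₀'⟩ := spread_out_of_isGermInjective'
    (X ↘ (Spec (CommRingCat.of k))) (Y ↘ (Spec (CommRingCat.of k))) s hs
  have hU : Dense (U : Set X) := U.2.dense ⟨_, hxU⟩
  obtain ⟨g, ⟨hg1, hg2⟩, -⟩ := Groth.Agent.S2344.result k X Y hX hnorm U hU g₀ hg₀'
  have hgs : X.fromSpecStalk (genericPoint X) ≫ g = s := by
    rw [hg₀, ← hg1, ← Category.assoc, Scheme.Opens.fromSpecStalkOfMem_ι]
  have hgen : g (genericPoint X) = genericPoint Y := by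
    let c : Spec (X.presheaf.stalk (genericPoint X)) :=
      (IsLocalRing.closedPoint (X.presheaf.stalk (genericPoint X)) : PrimeSpectrum _)
    have h1 : s c = genericPoint Y := by
      change Y.fromSpecStalk (genericPoint Y) (Spec.map φ c) = _
      exact K33.NormalExt.fromSpecStalk_apply_of_field _
    rw [← hgs] at h1
    rw [← h1]
    change _ = g (X.fromSpecStalk (genericPoint X) c)
    rw [K33.NormalExt.fromSpecStalk_apply_of_field]
  refine ⟨g, ⟨hg2, hgen, ?_⟩, ?_⟩
  · apply Spec.map_injective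
    rw [← cancel_mono (Y.fromSpecStalk (genericPoint Y)), fromSpecStalk_comp, hgs]
  · rintro g' ⟨hg1', hu', hg2'⟩
    refine ext_of_isDominant_of_isSeparated (Y ↘ (Spec (CommRingCat.of k))) (hg1'.trans hg2.symm)
      (X.fromSpecStalk (genericPoint X)) ?_
    rw [hgs, ← fromSpecStalk_comp g' (genericPoint X) (genericPoint Y) (specializes_of_eq hu'), hg2']

end K33.CurveMap
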