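import Groth.Agent.S0522
import Groth.Agent.CurvesB.ClosedIntegral
import Mathlib.AlgebraicGeometry.ZariskisMainTheorem

/-!
# The finite part of a separated quasi-finite scheme over a henselian local ring
-/

set_option autoImplicit false

universe u

open CategoryTheory AlgebraicGeometry IsLocalRing

namespace K33.FinitePart

open Groth.Agent

/-- Clopen subsets of `V(IB)` lift to clopen subsets of `Spec B` when `B` is integral over the
henselian pair `(A, I)`. -/
theorem exists_clopen_primeSpectrum {A B : Type u} [CommRing A] (I : Ideal A) [HenselianRing A I]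
    [CommRing B] [Algebra A B] [Algebra.IsIntegral A B] (Z Z' : Set (PrimeSpectrum B))
    (hZ : IsClosed Z) (hZ' : IsClosed Z') (hd : Disjoint Z Z')
    (hu : Z ∪ Z' = PrimeSpectrum.zeroLocus (I.map (algebraMap A B) : Set B)) :
    ∃ W : Set (PrimeSpectrum B), IsClopen W ∧ Z ⊆ W ∧ Disjoint Z' W := by
  set J : Ideal B := I.map (algebraMap A B) with hJ
  let q : B →+* B ⧸ J := Ideal.Quotient.mk J
  have hqs : Function.Surjective q := Ideal.Quotient.mk_surjective
  have hrange : Set.range (PrimeSpectrum.comap q) = PrimeSpectrum.zeroLocus (J : Set B) := by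
    rw [range_comap_of_surjective _ q hqs]
    simp [q]
  have hc : Continuous (PrimeSpectrum.comap q) := PrimeSpectrum.continuous_comap q
  have hclopen : IsClopen (PrimeSpectrum.comap q ⁻¹' Z) := by
    refine ⟨hZ.preimage hc, ?_⟩
    have : PrimeSpectrum.comap q ⁻¹' Z = (PrimeSpectrum.comap q ⁻¹' Z')ᶜ := by
      ext x
      have hx : PrimeSpectrum.comap q x ∈ Z ∪ Z' := by
        rw [hu, ← hrange]; exact ⟨x, rfl⟩
      constructor
      · intro h h'
        exact Set.disjoint_left.mp hd h h'
      · intro h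
        rcases hx with hx | hx
        · exact hx
        · exact absurd hx h
    rw [this]
    exact (hZ'.preimage hc).isOpen_compl
  obtain ⟨e, he, hee⟩ := PrimeSpectrum.isClopen_iff.mp hclopen
  obtain ⟨e', he', rfl⟩ := ((S0522.result A I).mp inferInstance B inferInstance).surjOn he
  refine ⟨PrimeSpectrum.basicOpen e', PrimeSpectrum.isClopen_iff.mpr ⟨e', he', rfl⟩, ?_, ?_⟩
  · intro z hz
    have : z ∈ Set.range (PrimeSpectrum.comap q) := by
      rw [hrange, ← hu]; exact Or.inl hz
    obtain ⟨y, rfl⟩ := this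
    have hy : y ∈ PrimeSpectrum.comap q ⁻¹' Z := hz
    rw [hee] at hy
    exact hy
  · rw [Set.disjoint_left]
    intro z hz hzW
    have : z ∈ Set.range (PrimeSpectrum.comap q) := by
      rw [hrange, ← hu]; exact Or.inr hz
    obtain ⟨y, rfl⟩ := this
    have hy : y ∈ PrimeSpectrum.comap q ⁻¹' Z := by
      rw [hee]; exact hzW
    exact Set.disjoint_left.mp hd hy hz

variable {A : Type u} [CommRing A] [IsLocalRing A]

theorem preimage_closedPoint {B : CommRingCat.{u}} (α : CommRingCat.of A ⟶ B) :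
    (Spec.map α) ⁻¹' {(closedPoint A : PrimeSpectrum A)} =
      PrimeSpectrum.zeroLocus (((maximalIdeal A).map α.hom : Ideal B) : Set B) := by
  have h : ({(closedPoint A : PrimeSpectrum A)} : Set (PrimeSpectrum A)) =
      PrimeSpectrum.zeroLocus (maximalIdeal A : Set A) := by
    ext p
    rw [PrimeSpectrum.mem_zeroLocus, Set.mem_singleton_iff]
    constructor
    · rintro rfl; exact le_rfl
    · intro hp
      apply PrimeSpectrum.ext
      exact ((IsLocalRing.maximalIdeal.isMaximal A).eq_of_le p.2.ne_top hp).symm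
  rw [Ideal.map, PrimeSpectrum.zeroLocus_span]
  refine Eq.trans (congrArg _ h) ?_
  exact PrimeSpectrum.preimage_comap_zeroLocus _ _

/-- The scheme version, for an integral morphism to the spectrum of a henselian local ring. -/
theorem exists_clopen_integral [HenselianRing A (maximalIdeal A)]
    {T : Scheme.{u}} (g : T ⟶ Spec (CommRingCat.of A)) [IsIntegralHom g] (Z Z' : Set T)
    (hZ : IsClosed Z) (hZ' : IsClosed Z') (hd : Disjoint Z Z')
    (hu : Z ∪ Z' = g ⁻¹' {(closedPoint A : PrimeSpectrum A)}) :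
    ∃ W : Set T, IsClopen W ∧ Z ⊆ W ∧ Disjoint Z' W := by
  have : IsAffine T := isAffine_of_isAffineHom g
  obtain ⟨B, ⟨φ⟩⟩ : ∃ B : CommRingCat.{u}, Nonempty (T ≅ Spec B) := ⟨_, ⟨T.isoSpec⟩⟩
  obtain ⟨α, hα⟩ := Spec.map_surjective (φ.inv ≫ g)
  have hint : IsIntegralHom (Spec.map α) := by rw [hα]; infer_instance
  let : Algebra A B := α.hom.toAlgebra
  have : Algebra.IsIntegral A B := by
    rw [IsIntegralHom.SpecMap_iff] at hint
    exact ⟨hint⟩
  have hh : ∀ x : T, φ.inv (φ.hom x) = x := fun x => by simp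
  let Z₁ : Set (Spec B) := φ.inv ⁻¹' Z
  let Z₁' : Set (Spec B) := φ.inv ⁻¹' Z'
  have hu' : Z₁ ∪ Z₁' = (Spec.map α) ⁻¹' {(closedPoint A : PrimeSpectrum A)} := by
    rw [← Set.preimage_union, hu, hα]
    rfl
  obtain ⟨W, hW, hZW, hZ'W⟩ : ∃ W : Set (Spec B), IsClopen W ∧ Z₁ ⊆ W ∧ Disjoint Z₁' W :=
    exists_clopen_primeSpectrum (A := A) (B := B) (maximalIdeal A) Z₁ Z₁'
    (hZ.preimage φ.inv.continuous) (hZ'.preimage φ.inv.continuous)
    (Disjoint.preimage _ hd) (hu'.trans (preimage_closedPoint α))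
  refine ⟨φ.hom ⁻¹' W, hW.preimage φ.hom.continuous, ?_, ?_⟩
  · intro z hz
    apply hZW
    change φ.inv (φ.hom z) ∈ Z
    rw [hh]; exact hz
  · rw [Set.disjoint_left] at hZ'W ⊢
    intro z hz hzW
    refine hZ'W (a := φ.hom z) ?_ hzW
    change φ.inv (φ.hom z) ∈ Z'
    rw [hh]; exact hz

/-- A nonempty closed subset of the spectrum of a local ring contains the closed point. -/
theorem closedPoint_mem (Z : Set (Spec (CommRingCat.of A))) (hZ : IsClosed Z) (hne : Z.Nonempty) :
    (closedPoint A : PrimeSpectrum A) ∈ Z := by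
  obtain ⟨z, hz⟩ := hne
  exact (IsLocalRing.specializes_closedPoint (R := A) (z : PrimeSpectrum A)).mem_closed hZ hz

/-- **The finite part.** A separated quasi-finite scheme over a henselian local ring has an open and
closed subscheme which is finite over the base and contains the closed fibre. -/
theorem exists_finite_part [HenselianRing A (maximalIdeal A)] {X : Scheme.{u}}
    (f : X ⟶ Spec (CommRingCat.of A)) [LocallyOfFiniteType f] [QuasiCompact f] [IsSeparated f]
    [LocallyQuasiFinite f] :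
    ∃ U : X.Opens, IsClosed (U : Set X) ∧ IsFinite (U.ι ≫ f) ∧
      ∀ x : X, f x = (closedPoint A : PrimeSpectrum A) → x ∈ U := by
  let j := f.toNormalization
  let g := f.fromNormalization
  have hgj : ∀ x, g (j x) = f x := fun x => by
    rw [← Scheme.Hom.comp_apply, Scheme.Hom.toNormalization_fromNormalization]
  let pt : Spec (CommRingCat.of A) := (closedPoint A : PrimeSpectrum A)
  have hpt : IsClosed ({pt} : Set (Spec (CommRingCat.of A))) := IsLocalRing.isClosed_singleton_closedPoint A
  let Z : Set f.normalization := j '' (f ⁻¹' {pt})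
  have hZ : IsClosed Z := by
    have hfin : (f ⁻¹' {pt}).Finite := f.finite_preimage_singleton pt
    have h1 : Z = ⋃ t ∈ Z, {t} := by simp
    rw [h1]
    refine (hfin.image j).isClosed_biUnion ?_
    rintro _ ⟨x, hx, rfl⟩
    apply CurvesB.ClosedIntegral.isClosed_of_isIntegralHom g
    rw [hgj]
    have hx' : f x = pt := hx
    rw [hx']
    exact hpt
  let Z' : Set f.normalization := (Set.range j)ᶜ ∩ g ⁻¹' {pt}
  have hZ' : IsClosed Z' :=
    j.isOpenEmbedding.isOpen_range.isClosed_compl.inter (hpt.preimage g.continuous)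
  obtain ⟨W, hW, hZW, hZ'W⟩ := exists_clopen_integral g Z Z' hZ hZ' (by
      rw [Set.disjoint_left]
      rintro _ ⟨x, -, rfl⟩ ⟨h, -⟩
      exact h ⟨x, rfl⟩)
    (by
      ext t
      constructor
      · rintro (⟨x, hx, rfl⟩ | ⟨-, h⟩)
        · rw [Set.mem_preimage, hgj]; exact hx
        · exact h
      · intro ht
        by_cases h : t ∈ Set.range j
        · obtain ⟨x, rfl⟩ := h
          refine Or.inl ⟨x, ?_, rfl⟩
          rw [Set.mem_preimage, ← hgj]; exact ht
        · exact Or.inr ⟨h, ht⟩)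
  -- `W` is contained in `X`
  have hWX : W ⊆ Set.range j := by
    have hcl : IsClosed (W ∩ (Set.range j)ᶜ) :=
      hW.isClosed.inter j.isOpenEmbedding.isOpen_range.isClosed_compl
    have him : IsClosed (g '' (W ∩ (Set.range j)ᶜ)) := g.isClosedMap _ hcl
    intro w hw
    by_contra hwj
    obtain ⟨t, ⟨ht1, ht2⟩, ht3⟩ := closedPoint_mem _ him ⟨_, ⟨w, ⟨hw, hwj⟩, rfl⟩⟩
    exact Set.disjoint_left.1 hZ'W ⟨ht2, ht3⟩ ht1
  let U : X.Opens := ⟨j ⁻¹' W, hW.isOpen.preimage j.continuous⟩
  refine ⟨U, hW.isClosed.preimage j.continuous, ?_, ?_⟩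
  · have hWc : (U.ι ≫ j) ≫ g = U.ι ≫ f := by
      rw [Category.assoc, Scheme.Hom.toNormalization_fromNormalization]
    have hrng : Set.range (U.ι ≫ j) = W := by
      ext w
      constructor
      · rintro ⟨x, rfl⟩
        exact x.2
      · intro hw
        obtain ⟨x, rfl⟩ := hWX hw
        exact ⟨⟨x, hw⟩, rfl⟩
    have h1 : IsClosedImmersion (U.ι ≫ j) := by
      apply IsClosedImmersion.of_isPreimmersion
      rw [hrng]
      exact hW.isClosed
    have h2 : IsIntegralHom (U.ι ≫ f) := by
      rw [← hWc]; infer_instance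
    have h3 : LocallyOfFiniteType (U.ι ≫ f) := inferInstance
    exact (IsFinite.iff_isIntegralHom_and_locallyOfFiniteType _).2 ⟨h2, h3⟩
  · intro x hx
    exact hZW ⟨x, hx, rfl⟩

end K33.FinitePart
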