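import Groth.Agent.Ega2.ClosedLift
import Mathlib.AlgebraicGeometry.Morphisms.Separated
import Mathlib.AlgebraicGeometry.Morphisms.UnderlyingMap

/-!
# Sections over a valuation ring of a separated closed morphism
-/

set_option autoImplicit false

universe u

open CategoryTheory AlgebraicGeometry IsLocalRing

namespace K33.SectionVal

theorem isDominant_SpecMap {A B : CommRingCat.{u}} (f : A ⟶ B) (hf : Function.Injective f.hom) :
    IsDominant (Spec.map f) := by
  refine ⟨?_⟩
  change DenseRange (PrimeSpectrum.comap f.hom)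
  rw [PrimeSpectrum.denseRange_comap_iff_ker_le_nilRadical]
  rw [(RingHom.injective_iff_ker_eq_bot f.hom).1 hf]
  exact bot_le

variable {A : Type u} [CommRing A] [IsDomain A] [ValuationRing A] {K : Type u} [Field K]
  [Algebra A K] [IsFractionRing A K]

/-- Lifting along a morphism whose underlying map is closed, from the generic point of the spectrum
of a valuation ring. -/
theorem exists_section {X : Scheme.{u}} (f : X ⟶ Spec (CommRingCat.of A)) (hf : IsClosedMap f.base)
    (x : Spec (CommRingCat.of K) ⟶ X)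
    (hx : x ≫ f = Spec.map (CommRingCat.ofHom (algebraMap A K))) :
    ∃ s : Spec (CommRingCat.of A) ⟶ X, s ≫ f = 𝟙 _ ∧
      Spec.map (CommRingCat.ofHom (algebraMap A K)) ≫ s = x := by
  let ξ : X := x (IsLocalRing.closedPoint K)
  let pt : Spec (CommRingCat.of A) := (closedPoint A : PrimeSpectrum A)
  obtain ⟨y, hy, hfy⟩ : ∃ y : X, ξ ⤳ y ∧ f y = pt := by
    have hcl : IsClosed (f.base '' closure {ξ}) := hf _ isClosed_closure
    have h1 : f ξ ∈ f.base '' closure {ξ} := ⟨ξ, subset_closure rfl, rfl⟩
    have h3 : f ξ ⤳ pt := IsLocalRing.specializes_closedPoint (R := A) (f ξ : PrimeSpectrum A)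
    obtain ⟨y, hy, hfy⟩ := h3.mem_closed hcl h1
    exact ⟨y, specializes_iff_mem_closure.mpr hy, hfy⟩
  obtain ⟨i, hi⟩ := Spec.map_surjective (X.fromSpecStalk y ≫ f)
  have hloc : IsLocalHom i.hom := by
    rw [isLocalHom_iff_comap_closedPoint]
    let c : Spec (X.presheaf.stalk y) := (closedPoint (X.presheaf.stalk y) : PrimeSpectrum _)
    have h1 : Spec.map i c = pt := by
      rw [hi, Scheme.Hom.comp_apply]
      exact (congrArg f (Scheme.fromSpecStalk_closedPoint (x := y))).trans hfy
    exact h1
  let pK : X.presheaf.stalk ξ ⟶ CommRingCat.of K := Scheme.stalkClosedPointTo x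
  have h1 : Spec.map (X.presheaf.stalkSpecializes hy ≫ pK) ≫ X.fromSpecStalk y = x := by
    rw [Spec.map_comp, Category.assoc, Scheme.SpecMap_stalkSpecializes_fromSpecStalk,
      Scheme.Spec_stalkClosedPointTo_fromSpecStalk]
  have key : i ≫ X.presheaf.stalkSpecializes hy ≫ pK = CommRingCat.ofHom (algebraMap A K) := by
    apply Spec.map_injective
    rw [Spec.map_comp, hi, ← Category.assoc, h1, hx]
  obtain ⟨φ, hφ1, hφ2⟩ := Groth.Agent.Ega2.ClosedLift.exists_retraction' (CommRingCat.of A)
    (X.presheaf.stalk y) K i (X.presheaf.stalkSpecializes hy ≫ pK) key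
  refine ⟨Spec.map φ ≫ X.fromSpecStalk y, ?_, ?_⟩
  · rw [Category.assoc, ← hi, ← Spec.map_comp, hφ2, Spec.map_id]
  · rw [← Category.assoc, ← Spec.map_comp]
    exact (congrArg (fun t => Spec.map t ≫ X.fromSpecStalk y) hφ1).trans h1

omit [ValuationRing A] in
theorem unique_section {X S : Scheme.{u}} (f : X ⟶ S) [IsSeparated f]
    (s s' : Spec (CommRingCat.of A) ⟶ X) (h : s ≫ f = s' ≫ f)
    (h' : Spec.map (CommRingCat.ofHom (algebraMap A K)) ≫ s =
      Spec.map (CommRingCat.ofHom (algebraMap A K)) ≫ s') : s = s' := by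
  have hdom : IsDominant (Spec.map (CommRingCat.ofHom (algebraMap A K))) :=
    isDominant_SpecMap _ (IsFractionRing.injective A K)
  have hdA : IsDomain (CommRingCat.of A) := inferInstanceAs (IsDomain A)
  exact ext_of_isDominant_of_isSeparated f h _ h'

end K33.SectionVal
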